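import Cfsg.Agent.SlBlocks.Blocks
import Cfsg.Agent.Classical.Linear.Card

/-!
The number of `p`-blocks of `SL_{m+1}(q)`: one for each character of the centre, and the Steinberg
block.
-/

set_option autoImplicit false

open scoped Classical

namespace CfsgLib.SlBlocks

open Cfsg CfsgLib.Blocks

universe u

variable {F : Type u} [Field F] [Fintype F] {m : ℕ}

theorem isScalar_of_mem_center {z : SLG m F} (hz : z ∈ Subgroup.center (SLG m F)) : IsScalar z := by
  obtain ⟨r, -, hr⟩ := Matrix.SpecialLinearGroup.mem_center_iff.1 hz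
  refine ⟨fun a b h => ?_, fun a b => ?_⟩
  · show (z : Matrix (Fin (m + 1)) (Fin (m + 1)) F) a b = 0
    rw [← hr]; simp [h]
  · show (z : Matrix (Fin (m + 1)) (Fin (m + 1)) F) a a = (z : Matrix (Fin (m + 1)) (Fin (m + 1)) F) b b
    rw [← hr]; simp

theorem omg_one (χ : IrrCharacter (SLG m F)) : omg χ 1 = 1 :=
  div_self (CfsgLib.Chars.map_one_ne_zero χ)

theorem omg_mul_omg (χ : IrrCharacter (SLG m F)) {s : SLG m F} (hs : IsScalar s) (g : SLG m F) :
    omg χ (s * g) = omg χ s * omg χ g := by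
  rw [omg, omg_mul χ hs, mul_div_assoc]
  rfl

theorem omg_stIrr {s : SLG m F} (hs : IsScalar s) : omg (stIrr m F) s = 1 := by
  have h : stChar m F s = stChar m F 1 := by
    conv_lhs => rw [← mul_one s]
    exact stChar_scalar_mul hs 1
  show stChar m F s / stChar m F 1 = 1
  rw [h, div_self]
  exact CfsgLib.Chars.map_one_ne_zero (stIrr m F)

/-- The central character on the centre. -/
noncomputable def centHom (χ : IrrCharacter (SLG m F)) : Subgroup.center (SLG m F) →* ℂˣ :=
  MonoidHom.toHomUnits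
    { toFun := fun z => omg χ (z : SLG m F)
      map_one' := omg_one χ
      map_mul' := fun z w => omg_mul_omg χ (isScalar_of_mem_center z.2) (w : SLG m F) }

theorem coe_centHom (χ : IrrCharacter (SLG m F)) (z : Subgroup.center (SLG m F)) :
    (centHom χ z : ℂ) = omg χ (z : SLG m F) := rfl

theorem centHom_eq_iff {χ ψ : IrrCharacter (SLG m F)} :
    centHom χ = centHom ψ ↔ ∀ s, IsScalar s → omg χ s = omg ψ s := by
  constructor
  · intro h s hs
    exact congrArg Units.val (DFunLike.congr_fun h ⟨s, mem_center_of_scalar hs⟩)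
  · intro h
    exact MonoidHom.ext fun z => Units.ext (h _ (isScalar_of_mem_center z.2))

theorem exists_centHom_eq (lam : Subgroup.center (SLG m F) →* ℂˣ) :
    ∃ χ : IrrCharacter (SLG m F), centHom χ = lam := by
  by_contra hne
  push_neg at hne
  have h0 : ∀ χ : IrrCharacter (SLG m F),
      ∑ z : Subgroup.center (SLG m F), ((centHom χ z * (lam z)⁻¹ : ℂˣ) : ℂ) = 0 := by
    intro χ
    exact sum_hom_units_eq_zero ((Units.coeHom ℂ).comp (centHom χ * lam⁻¹)) fun h => hne χ (by
      rw [← mul_inv_eq_one]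
      exact MonoidHom.ext fun z => Units.ext (DFunLike.congr_fun h z))
  have h1 : (∑ χ : IrrCharacter (SLG m F), ((χ : SLG m F → ℂ) 1 * (χ : SLG m F → ℂ) 1) *
      ∑ z : Subgroup.center (SLG m F), ((centHom χ z * (lam z)⁻¹ : ℂˣ) : ℂ)) = 0 :=
    Finset.sum_eq_zero fun χ _ => by rw [h0 χ, mul_zero]
  simp only [Finset.mul_sum] at h1
  rw [Finset.sum_comm] at h1
  have h2 : ∀ z : Subgroup.center (SLG m F),
      ∑ χ : IrrCharacter (SLG m F), (χ : SLG m F → ℂ) 1 * (χ : SLG m F → ℂ) 1 *
        ((centHom χ z * (lam z)⁻¹ : ℂˣ) : ℂ) =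
      if z = 1 then (Nat.card (SLG m F) : ℂ) else 0 := by
    intro z
    have e : ∀ χ : IrrCharacter (SLG m F), (χ : SLG m F → ℂ) 1 * (χ : SLG m F → ℂ) 1 *
        ((centHom χ z * (lam z)⁻¹ : ℂˣ) : ℂ) =
        (χ : SLG m F → ℂ) 1 * (χ : SLG m F → ℂ) (z : SLG m F) * (((lam z)⁻¹ : ℂˣ) : ℂ) := by
      intro χ
      rw [Units.val_mul, coe_centHom, omg]
      field_simp [CfsgLib.Chars.map_one_ne_zero χ]
    rw [Finset.sum_congr rfl fun χ _ => e χ, ← Finset.sum_mul, CfsgLib.Chars.sum_irr_map_one_mul]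
    by_cases hz : z = 1
    · subst hz; simp
    · rw [if_neg hz, if_neg (fun h => hz (OneMemClass.coe_eq_one.1 h)), zero_mul]
  rw [Finset.sum_congr rfl fun z _ => h2 z, Finset.sum_ite_eq' _ (1 : Subgroup.center (SLG m F)),
    if_pos (Finset.mem_univ _)] at h1
  exact Nat.cast_ne_zero.2 Nat.card_pos.ne' h1

variable {p : ℕ} [Fact p.Prime] [CharP F p]

include p in
theorem exists_centHom_eq_ne (hm : 0 < m) (lam : Subgroup.center (SLG m F) →* ℂˣ) :
    ∃ χ : IrrCharacter (SLG m F), centHom χ = lam ∧ χ ≠ stIrr m F := by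
  by_cases hl : lam = 1
  · refine ⟨CfsgLib.Chars.oneChar _, ?_, fun h => ?_⟩
    · subst hl
      refine MonoidHom.ext fun z => Units.ext ?_
      simp [coe_centHom, omg]
    · have h1 := charDegree_stIrr (m := m) (F := F) (p := p)
      rw [← h, CfsgLib.Chars.charDegree_eq_of_map_one (n := 1) (by simp), eq_comm, pow_eq_one_iff_left
        (factorization_pos (p := p) (F := F) hm).ne'] at h1
      exact (Fact.out : p.Prime).one_lt.ne' h1
  · obtain ⟨χ, hχ⟩ := exists_centHom_eq lam
    refine ⟨χ, hχ, fun h => hl ?_⟩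
    rw [← hχ, h]
    exact MonoidHom.ext fun z => Units.ext (omg_stIrr (isScalar_of_mem_center z.2))

variable {M : Ideal AlgInt} [hMax : M.IsMaximal] (hM : IsPModular p M)

/-- A chosen non-Steinberg character with given central character. -/
noncomputable def repr (p : ℕ) [Fact p.Prime] [CharP F p] (hm : 0 < m)
    (lam : Subgroup.center (SLG m F) →* ℂˣ) : IrrCharacter (SLG m F) :=
  (exists_centHom_eq_ne (p := p) hm lam).choose

theorem repr_spec (hm : 0 < m) (lam : Subgroup.center (SLG m F) →* ℂˣ) :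
    centHom (repr p hm lam) = lam ∧ repr p hm lam ≠ stIrr m F :=
  (exists_centHom_eq_ne (p := p) hm lam).choose_spec

theorem blockOf_ne_st {χ : IrrCharacter (SLG m F)} (h : χ ≠ stIrr m F) :
    blockOf M (χ : SLG m F → ℂ) ≠ {stIrr m F} := fun e =>
  h (Set.mem_singleton_iff.1 (e ▸ self_mem_blockOf χ))

include hM in
theorem centHom_eq_of_mem {B : Set (IrrCharacter (SLG m F))} (hB : IsPBlock M B)
    {χ ψ : IrrCharacter (SLG m F)} (hχ : χ ∈ B) (hψ : ψ ∈ B) : centHom χ = centHom ψ :=
  centHom_eq_iff.2 fun _ hs => omg_eq_of_mem hM hB hχ hψ hs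

include hM in
theorem ncard_blocks_ne_st (hm : 0 < m) :
    {B : Set (IrrCharacter (SLG m F)) | IsPBlock M B ∧ B ≠ {stIrr m F}}.ncard =
      Nat.gcd (m + 1) (Fintype.card F - 1) := by
  set S := {B : Set (IrrCharacter (SLG m F)) | IsPBlock M B ∧ B ≠ {stIrr m F}}
  let f : (Subgroup.center (SLG m F) →* ℂˣ) → S := fun lam =>
    ⟨blockOf M ((repr p hm lam : IrrCharacter (SLG m F)) : SLG m F → ℂ),
      ⟨_, rfl⟩, blockOf_ne_st (repr_spec hm lam).2⟩
  have hf : Function.Bijective f := by
    constructor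
    · intro l l' h
      have h' : blockOf M ((repr p hm l : IrrCharacter (SLG m F)) : SLG m F → ℂ) =
          blockOf M ((repr p hm l' : IrrCharacter (SLG m F)) : SLG m F → ℂ) := congrArg Subtype.val h
      rw [← (repr_spec (p := p) hm l).1, ← (repr_spec (p := p) hm l').1]
      exact centHom_eq_of_mem hM ⟨_, rfl⟩ (h' ▸ self_mem_blockOf _) (self_mem_blockOf _)
    · rintro ⟨B, hB, hne⟩
      obtain ⟨χ, hχ⟩ := nonempty_of_isPBlock hB
      refine ⟨centHom χ, Subtype.ext (eq_of_omg_eq hM hm ⟨_, rfl⟩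
        (blockOf_ne_st (repr_spec hm _).2) hB hne (self_mem_blockOf _) hχ ?_)⟩
      exact centHom_eq_iff.1 (repr_spec hm _).1
  rw [← Nat.card_coe_set_eq, ← Nat.card_congr (Equiv.ofBijective f hf),
    CfsgLib.Chars.card_monoidHom_units,
    ((commutator_eq_bot_iff_center_eq_top _).2 (eq_top_iff.2 fun x _ => Subgroup.mem_center_iff.2 fun y =>
      Subtype.ext (Subgroup.mem_center_iff.1 x.2 (y : SLG m F)) : Subgroup.center
      (Subgroup.center (SLG m F)) = ⊤)), Subgroup.index_bot,
    CfsgLib.Classical.Linear.center_sl_card, Fintype.card_fin]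

include hM in
theorem card_blocks (hm : 0 < m) :
    Nat.card {B : Set (IrrCharacter (SLG m F)) // IsPBlock M B} =
      Nat.gcd (m + 1) (Fintype.card F - 1) + 1 := by
  have hst : ({stIrr m F} : Set (IrrCharacter (SLG m F))) ∉
      {B : Set (IrrCharacter (SLG m F)) | IsPBlock M B ∧ B ≠ {stIrr m F}} := fun h => h.2 rfl
  have e : {B : Set (IrrCharacter (SLG m F)) | IsPBlock M B} =
      insert {stIrr m F} {B | IsPBlock M B ∧ B ≠ {stIrr m F}} := by
    ext B
    simp only [Set.mem_setOf_eq, Set.mem_insert_iff]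
    by_cases h : B = {stIrr m F}
    · simp [h, isPBlock_st hM]
    · simp [h]
  rw [← ncard_blocks_ne_st hM hm, ← Set.ncard_insert_of_notMem hst (Set.toFinite _), ← e,
    ← Nat.card_coe_set_eq]
  rfl

end CfsgLib.SlBlocks

namespace CfsgLib.SlBlocks

open Cfsg CfsgLib.Blocks

variable {F : Type*} [Field F] [Fintype F] {m : ℕ} {p : ℕ} [Fact p.Prime] [CharP F p]
  {M : Ideal AlgInt} [M.IsMaximal]

/-- The identity is a defect class of every block other than the Steinberg block. -/
theorem isDefectClass_one (hM : IsPModular p M) (hm : 0 < m) {B : Set (IrrCharacter (SLG m F))}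
    (hB : IsPBlock M B) (hne : B ≠ {stIrr m F}) : IsDefectClass M B (1 : SLG m F) := by
  have := charP_kres hM
  refine ⟨memLocalRing_blockCoeff hB 1, fun hmem => ?_, fun χ _ hmem => ?_⟩
  · exact coeff_one_ne_zero_of_hasProf hM hB (hasProf_of_ne hM hm hB hne)
      (by rw [coeff_topEl]; exact (redC_eq_zero_iff (memLocalRing_blockCoeff hB 1)).2 hmem)
  · have h1 : centralChar (χ : SLG m F → ℂ) 1 = 1 := by
      have hc : Subgroup.centralizer ({(1 : SLG m F)} : Set (SLG m F)) = ⊤ :=
        eq_top_iff.2 fun g _ => Subgroup.mem_centralizer_iff.2 fun x hx => by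
          rw [Set.mem_singleton_iff] at hx; subst hx; simp
      simp [centralChar, hc, Subgroup.index_top, CfsgLib.Chars.map_one_ne_zero χ]
    rw [h1] at hmem
    have h2 : MemLocalRing M (1 : ℂ) := (localRing M).one_mem
    exact one_ne_zero (α := kres M) (by rw [← redC_one]; exact (redC_eq_zero_iff h2).2 hmem)

/-- Every Sylow subgroup is a defect group of a block other than the Steinberg block. -/
theorem isDefectGroup_sylow (hM : IsPModular p M) (hm : 0 < m) {B : Set (IrrCharacter (SLG m F))}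
    (hB : IsPBlock M B) (hne : B ≠ {stIrr m F}) (P : Sylow p (SLG m F)) :
    IsDefectGroup p M B (P : Subgroup (SLG m F)) := by
  refine ⟨1, isDefectClass_one hM hm hB hne, ?_⟩
  have hle : (P : Subgroup (SLG m F)) ≤ Subgroup.centralizer ({(1 : SLG m F)} : Set (SLG m F)) :=
    fun g _ => Subgroup.mem_centralizer_iff.2 fun x hx => by
      rw [Set.mem_singleton_iff] at hx; subst hx; simp
  refine ⟨P.subtype hle, ?_⟩
  rw [Sylow.coe_subtype, Subgroup.subgroupOf_map_subtype, inf_eq_left.2 hle]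

end CfsgLib.SlBlocks
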