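import Cfsg.Agent.SlBlocks.Steinberg
import Cfsg.Agent.Blocks.Orth.BlockSupport
import Cfsg.Agent.Blocks.Orth.Blocks

/-!
The `p`-blocks of `SL_{m+1}(q)`, `q` a power of `p`: the Steinberg block of defect zero and blocks
of full defect, one for each central character.
-/

set_option autoImplicit false

open scoped Classical MonoidAlgebra ComplexConjugate

namespace CfsgLib.SlBlocks

open Cfsg CfsgLib.Blocks

universe u

variable {F : Type u} [Field F] [Fintype F] {m : ℕ}

/-- The central character on scalars. -/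
noncomputable def omg (χ : IrrCharacter (SLG m F)) (s : SLG m F) : ℂ :=
  (χ : SLG m F → ℂ) s / (χ : SLG m F → ℂ) 1

theorem mem_center_of_scalar {s : SLG m F} (hs : IsScalar s) :
    s ∈ Subgroup.center (SLG m F) :=
  Subgroup.mem_center_iff.2 fun g => (hs.commute g).symm

theorem omg_mul (χ : IrrCharacter (SLG m F)) {s : SLG m F} (hs : IsScalar s) (g : SLG m F) :
    (χ : SLG m F → ℂ) (s * g) = omg χ s * (χ : SLG m F → ℂ) g :=
  CfsgLib.Chars.map_mul_of_mem_center χ (mem_center_of_scalar hs) g

theorem omg_pow_card (χ : IrrCharacter (SLG m F)) {s : SLG m F} (hs : IsScalar s) :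
    omg χ s ^ (Fintype.card F - 1) = 1 := by
  have h : ∀ r : ℕ, (χ : SLG m F → ℂ) (s ^ r) = omg χ s ^ r * (χ : SLG m F → ℂ) 1 := by
    intro r
    induction r with
    | zero => simp
    | succ r ih => rw [pow_succ', omg_mul χ hs, ih, pow_succ']; ring
  have h1 := h (Fintype.card F - 1)
  rw [pow_card_sub_one_of_scalar hs] at h1
  exact (mul_eq_right₀ (CfsgLib.Chars.map_one_ne_zero χ)).1 h1.symm

variable {p : ℕ} [Fact p.Prime] [CharP F p]

include p in
theorem not_dvd_card_sub_one : ¬ p ∣ Fintype.card F - 1 := fun h1 => by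
  have h2 : p ∣ Fintype.card F :=
    (CharP.cast_eq_zero_iff F p _).1 (FiniteField.cast_card_eq_zero F)
  have h3 : p ∣ 1 := (Nat.dvd_add_right h1).1 (by
    rwa [Nat.sub_add_cancel (Fintype.card_pos (α := F))])
  exact (Fact.out : p.Prime).one_lt.ne' (Nat.dvd_one.1 h3)

variable {M : Ideal AlgInt} [hMax : M.IsMaximal]

omit [Fintype F] [Fact p.Prime] [CharP F p] in
theorem redC_mul {a b : ℂ} (ha : MemLocalRing M a) (hb : MemLocalRing M b) :
    redC M (a * b) = redC M a * redC M b := by
  have hab : MemLocalRing M (a * b) := (localRing M).mul_mem ha hb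
  rw [redC_of_mem ha, redC_of_mem hb, redC_of_mem hab, ← map_mul]
  rfl

theorem memLocalRing_of_root_one {ζ : ℂ} {N : ℕ} (hN : 0 < N) (h : ζ ^ N = 1) :
    MemLocalRing M ζ :=
  memLocalRing_of_isIntegral (IsIntegral.of_pow hN (by rw [h]; exact isIntegral_one))

/-- Congruent roots of unity of order prime to `p` are equal. -/
theorem root_eq_of_congr {p : ℕ} (hM : IsPModular p M) {ζ η : ℂ} {N : ℕ} (hN : ¬ p ∣ N)
    (hζ : ζ ^ N = 1) (hη : η ^ N = 1) (h : MemLocalIdeal M (ζ - η)) : ζ = η := by
  have := charP_kres hM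
  have hN0 : 0 < N := Nat.pos_of_ne_zero fun e => hN (e ▸ dvd_zero p)
  have hη0 : η ≠ 0 := fun e => by rw [e, zero_pow hN0.ne'] at hη; exact zero_ne_one hη
  set z : ℂ := ζ / η with hz
  have hzN : z ^ N = 1 := by rw [hz, div_pow, hζ, hη, div_one]
  let Z : localRing M := ⟨z, memLocalRing_of_root_one hN0 hzN⟩
  let E : localRing M := ⟨η, memLocalRing_of_root_one hN0 hη⟩
  have hres : res M Z = 1 := by
    have hE : res M E ≠ 0 := fun e => by
      have h1 : res M (E ^ N) = 0 := by rw [map_pow, e, zero_pow hN0.ne']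
      rw [show E ^ N = 1 from Subtype.ext hη, map_one] at h1
      exact one_ne_zero h1
    have h2 : res M (Z * E) = res M E := res_eq_res_iff.2 (by
      show Congr M (z * η) η
      rw [hz, div_mul_cancel₀ _ hη0]
      exact h)
    rw [map_mul] at h2
    exact (mul_eq_right₀ hE).1 h2
  by_contra hne
  have hz1 : z ≠ 1 := fun e => hne (by rwa [hz, div_eq_one_iff_eq hη0] at e)
  have hs : ∑ i ∈ Finset.range N, Z ^ i = 0 := Subtype.ext (by
    show ((∑ i ∈ Finset.range N, Z ^ i : localRing M) : ℂ) = 0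
    push_cast
    rw [geom_sum_eq hz1, hzN, sub_self, zero_div])
  have h3 := congrArg (res M) hs
  simp only [map_sum, map_pow, hres, one_pow, Finset.sum_const, Finset.card_range, map_zero,
    nsmul_eq_mul, mul_one] at h3
  exact hN ((CharP.cast_eq_zero_iff (kres M) p N).1 h3)

variable (hM : IsPModular p M) {B B' : Set (IrrCharacter (SLG m F))}

include hM in
/-- The members of a block agree on scalars. -/
theorem omg_eq_of_mem (hB : IsPBlock M B) {χ ψ : IrrCharacter (SLG m F)} (hχ : χ ∈ B) (hψ : ψ ∈ B)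
    {s : SLG m F} (hs : IsScalar s) : omg χ s = omg ψ s := by
  refine root_eq_of_congr hM (not_dvd_card_sub_one (F := F) (p := p)) (omg_pow_card χ hs)
    (omg_pow_card ψ hs) ?_
  have h := sameBlock_of_mem hB hχ hψ s
  have hc : Subgroup.centralizer ({s} : Set (SLG m F)) = ⊤ :=
    eq_top_iff.2 fun g _ => Subgroup.mem_centralizer_iff.2 fun x hx => by
      rw [Set.mem_singleton_iff] at hx; subst hx; exact hs.commute g
  simpa [centralChar, omg, hc, Subgroup.index_top] using h

/-- The reduced coefficient factor of a block at a scalar. -/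
noncomputable def coefFac (M : Ideal AlgInt) [M.IsMaximal] (χ : IrrCharacter (SLG m F))
    (s : SLG m F) : kres M := redC M (conj (omg χ s))

omit [Fact p.Prime] [CharP F p] in
theorem memLocalRing_conj_omg (χ : IrrCharacter (SLG m F)) {s : SLG m F} (hs : IsScalar s) :
    MemLocalRing M (conj (omg χ s)) := by
  refine memLocalRing_of_root_one (N := Fintype.card F - 1) ?_ (by
    rw [← map_pow, omg_pow_card χ hs, map_one])
  have := Fintype.one_lt_card (α := F)
  omega

include hM in
theorem coeff_scalar_mul (hB : IsPBlock M B) {χ : IrrCharacter (SLG m F)} (hχ : χ ∈ B)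
    {s : SLG m F} (hs : IsScalar s) (g : SLG m F) :
    (topEl M B).coeff (s * g) = coefFac M χ s * (topEl M B).coeff g := by
  rw [coeff_topEl, coeff_topEl, coefFac,
    ← redC_mul (memLocalRing_conj_omg χ hs) (memLocalRing_blockCoeff hB g)]
  congr 1
  rw [blockCoeff, blockCoeff, mul_left_comm]
  congr 1
  rw [finsum_mem_eq_finite_toFinset_sum _ (Set.toFinite B),
    finsum_mem_eq_finite_toFinset_sum _ (Set.toFinite B), Finset.mul_sum]
  refine Finset.sum_congr rfl fun ψ hψ => ?_
  rw [Set.Finite.mem_toFinset] at hψ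
  rw [omg_mul ψ hs, map_mul, omg_eq_of_mem hM hB hψ hχ hs]
  ring

omit [Fact p.Prime] [CharP F p] in
theorem coefFac_mul_inv (χ : IrrCharacter (SLG m F)) {s : SLG m F} (hs : IsScalar s)
    (hs' : IsScalar s⁻¹) : coefFac M χ s * coefFac M χ s⁻¹ = 1 := by
  have h : omg χ s * omg χ s⁻¹ = 1 := by
    have := omg_mul χ hs s⁻¹
    rw [mul_inv_cancel] at this
    rw [omg, omg, ← mul_div_assoc, ← omg, ← this, div_self (CfsgLib.Chars.map_one_ne_zero χ)]
  rw [coefFac, coefFac, ← redC_mul (memLocalRing_conj_omg χ hs) (memLocalRing_conj_omg χ hs'),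
    ← map_mul, h, map_one, redC_one]

omit [Fact p.Prime] [CharP F p] in
theorem isScalar_inv {s : SLG m F} (hs : IsScalar s) : IsScalar s⁻¹ := by
  have h : s⁻¹ = s ^ (orderOf s - 1) := by
    rw [inv_eq_iff_mul_eq_one, ← pow_succ', Nat.sub_add_cancel (orderOf_pos s), pow_orderOf_eq_one]
  rw [h]
  generalize orderOf s - 1 = r
  induction r with
  | zero => exact ⟨by rw [pow_zero]; exact isDiag_one, fun a b => by simp [ent_one]⟩
  | succ r ih =>
    rw [pow_succ]
    exact ⟨ih.1.mul hs.1, fun a b => by rw [ih.1.ent_mul, ih.1.ent_mul, ih.2 a b, hs.2 a b]⟩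

omit [Fact p.Prime] [CharP F p] in
theorem isScalar_one : IsScalar (1 : SLG m F) := ⟨isDiag_one, fun a b => by simp [ent_one]⟩

include hM in
theorem isCentralReg_topEl (hB : IsPBlock M B) : IsCentralReg p (topEl M B) := by
  refine ⟨fun g => ?_, fun g hg => ?_⟩
  · exact (isFixedBy_iff_commute.1 (isBlockIdem_topEl hB).1.2 g (Subgroup.mem_top g)).eq
  · rw [coeff_topEl, blockCoeff_eq_zero_of_singular hM hB hg, redC_zero]

/-- The block has a vector killed by a simple operator. -/
def HasProf (M : Ideal AlgInt) [M.IsMaximal] (B : Set (IrrCharacter (SLG m F))) : Prop :=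
  ∃ (A : Set (Fin m)) (z : (kres M)[SLG m F]), A.Nonempty ∧ z ≠ 0 ∧ IsFix (UU m F) z ∧ Prof A z ∧
    topEl M B * z = z

/-- The block has a vector of Steinberg type. -/
def HasSt (M : Ideal AlgInt) [M.IsMaximal] (B : Set (IrrCharacter (SLG m F))) : Prop :=
  ∃ y : (kres M)[SLG m F], IsStVec y ∧ topEl M B * y = y

include hM in
theorem hasProf_or_hasSt (hB : IsPBlock M B) : HasProf M B ∨ HasSt M B := by
  have := charP_kres hM
  have he := isCentralReg_topEl hM hB
  obtain ⟨b, hb0, hbf, hbe⟩ := exists_fix (p := p) (k := kres M)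
    (CfsgLib.Classical.Linear.isPGroup_upperUnitriSL (n := m + 1) (F := F))
    (isBlockIdem_topEl hB).ne_zero
  have heb : topEl M B * b = b := hbe _ he.comm (isBlockIdem_topEl hB).idem
  rcases exists_prof_or_st (p := p) hb0 hbf with ⟨A, z, hA, hz0, hzf, hprof, hze⟩ | ⟨y, hy, hye⟩
  · exact Or.inl ⟨A, z, hA, hz0, hzf, hprof, hze _ he.comm heb⟩
  · exact Or.inr ⟨y, hy, hye _ he.comm heb⟩

include hM in
theorem hasSt_unique (hB : IsPBlock M B) (hB' : IsPBlock M B') (h : HasSt M B) (h' : HasSt M B') :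
    B = B' := by
  by_contra hne
  have := charP_kres hM
  obtain ⟨y, hy, hey⟩ := h
  obtain ⟨y', hy', hey'⟩ := h'
  obtain ⟨φ, hφ⟩ := mul_of_stVec (p := p) (isCentralReg_topEl hM hB')
  have h0 : topEl M B' * y = 0 := by
    rw [← hey, ← mul_assoc, (isBlockIdem_topEl hB').orthogonal (isBlockIdem_topEl hB)
      (fun e => hne (topEl_injective hB' hB e).symm), zero_mul]
  rw [hφ y hy, smul_eq_zero] at h0
  have h1 := hφ y' hy'
  rw [hey', h0.resolve_right hy.ne_zero, zero_smul] at h1
  exact hy'.ne_zero h1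

include hM in
theorem topEl_mul_of_prof (hB : IsPBlock M B) (hB' : IsPBlock M B') {χ : IrrCharacter (SLG m F)}
    {χ' : IrrCharacter (SLG m F)} (hχ : χ ∈ B) (hχ' : χ' ∈ B')
    (homg : ∀ s, IsScalar s → omg χ s = omg χ' s) {A : Set (Fin m)} (hA : A.Nonempty)
    {z : (kres M)[SLG m F]} (hzf : IsFix (UU m F) z) (hprof : Prof A z)
    (hz : topEl M B * z = z) :
    topEl M B' * z =
      ((Finset.univ.filter (IsScalar (F := F) (m := m))).card * (topEl M B').coeff 1 : kres M) • z := by
  have := charP_kres hM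
  rw [mul_of_prof (isCentralReg_topEl hM hB') hA hzf hprof, scalarPart, Finset.sum_mul]
  rw [Finset.card_eq_sum_ones, Nat.cast_sum, Finset.sum_mul, Finset.sum_smul]
  refine Finset.sum_congr rfl fun s hs => ?_
  have hs' : IsScalar s := (Finset.mem_filter.1 hs).2
  have e1 : (topEl M B').coeff s = coefFac M χ' s * (topEl M B').coeff 1 := by
    have := coeff_scalar_mul hM hB' hχ' hs' 1
    rwa [mul_one] at this
  have e2 : dl (kres M) s * topEl M B = coefFac M χ s⁻¹ • topEl M B := by
    refine MonoidAlgebra.ext (Finsupp.ext fun g => ?_)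
    rw [dl, MonoidAlgebra.coeff_single_mul_apply, one_mul,
      coeff_scalar_mul hM hB hχ (isScalar_inv hs') g]
    rfl
  have e3 : coefFac M χ' s = coefFac M χ s := by rw [coefFac, coefFac, homg s hs']
  rw [smul_mul_assoc, show dl (kres M) s * z = coefFac M χ s⁻¹ • z by
      conv_lhs => rw [← hz, ← mul_assoc, e2, smul_mul_assoc, hz],
    smul_smul, e1, e3]
  congr 1
  rw [mul_right_comm, coefFac_mul_inv χ hs' (isScalar_inv hs')]
  simp

include hM in
theorem coeff_one_ne_zero_of_hasProf (hB : IsPBlock M B) (h : HasProf M B) :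
    (topEl M B).coeff 1 ≠ 0 := by
  obtain ⟨A, z, hA, hz0, hzf, hprof, hz⟩ := h
  obtain ⟨χ, hχ⟩ := nonempty_of_isPBlock hB
  intro h0
  have h1 := topEl_mul_of_prof hM hB hB hχ hχ (fun _ _ => rfl) hA hzf hprof hz
  rw [hz, h0, mul_zero, zero_smul] at h1
  exact hz0 h1

include hM in
theorem blockDefect_eq_full (hB : IsPBlock M B) (h : (topEl M B).coeff 1 ≠ 0) :
    blockDefect p B = (Nat.card (SLG m F)).factorization p := by
  refine le_antisymm (Nat.sub_le _ _) ?_
  have hg : ¬ MemLocalIdeal M (blockCoeff B (1 : SLG m F)) := fun hmem => h (by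
    rw [coeff_topEl]; exact (redC_eq_zero_iff (memLocalRing_blockCoeff hB 1)).2 hmem)
  have hle := factorization_centralizer_le_blockDefect hM hB hg
  rwa [show Subgroup.centralizer ({(1 : SLG m F)} : Set (SLG m F)) = ⊤ from
    eq_top_iff.2 fun g _ => Subgroup.mem_centralizer_iff.2 fun x hx => by
      rw [Set.mem_singleton_iff] at hx; subst hx; simp, Subgroup.card_top] at hle

theorem isPBlock_st (hM : IsPModular p M) : IsPBlock M ({stIrr m F} : Set (IrrCharacter (SLG m F))) :=
  ⟨stIrr m F, (blockOf_stIrr hM).symm⟩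

theorem blockDefect_st : blockDefect p ({stIrr m F} : Set (IrrCharacter (SLG m F))) = 0 := by
  rw [blockDefect, Set.image_singleton, csInf_singleton, charDegree_stIrr (p := p),
    Nat.Prime.factorization_pow Fact.out, Finsupp.single_eq_same, Nat.sub_self]

include p in
theorem factorization_pos (hm : 0 < m) : 0 < (Nat.card (SLG m F)).factorization p := by
  rcases Nat.eq_zero_or_pos ((Nat.card (SLG m F)).factorization p) with h | h
  · exfalso
    have hU : Nat.card (UU m F) = 1 := by rw [card_UU_eq (p := p), h, pow_zero]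
    rw [Subgroup.card_eq_one] at hU
    have hmem := xx_mem (m := m) ⟨0, hm⟩ (1 : F)
    rw [hU, Subgroup.mem_bot] at hmem
    have h2 := congrArg (fun g : SLG m F =>
      ent g (Fin.castSucc ⟨0, hm⟩) (Fin.succ ⟨0, hm⟩)) hmem
    rw [← mul_one (xx (⟨0, hm⟩ : Fin m) (1 : F))] at h2
    simp only [ent_xx_mul, ent_one] at h2
    simp [ne_of_castSucc] at h2
  · exact h

include hM in
/-- Every block other than the Steinberg block has full defect and a vector killed by a simple
operator. -/
theorem hasProf_of_ne (hm : 0 < m) (hB : IsPBlock M B) (hne : B ≠ {stIrr m F}) : HasProf M B := by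
  by_contra h
  have hst : HasSt M B := (hasProf_or_hasSt hM hB).resolve_left h
  have hst0 : HasSt M ({stIrr m F} : Set (IrrCharacter (SLG m F))) := by
    refine (hasProf_or_hasSt hM (isPBlock_st hM)).resolve_left fun h0 => ?_
    have := blockDefect_eq_full hM (isPBlock_st hM) (coeff_one_ne_zero_of_hasProf hM (isPBlock_st hM) h0)
    rw [blockDefect_st] at this
    exact (factorization_pos (p := p) (F := F) hm).ne this
  exact hne (hasSt_unique hM hB (isPBlock_st hM) hst hst0)

include hM in
theorem blockDefect_of_ne (hm : 0 < m) (hB : IsPBlock M B) (hne : B ≠ {stIrr m F}) :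
    blockDefect p B = (Nat.card (SLG m F)).factorization p :=
  blockDefect_eq_full hM hB (coeff_one_ne_zero_of_hasProf hM hB (hasProf_of_ne hM hm hB hne))

include hM in
/-- Blocks other than the Steinberg block are determined by their central characters. -/
theorem eq_of_omg_eq (hm : 0 < m) (hB : IsPBlock M B) (hne : B ≠ {stIrr m F})
    (hB' : IsPBlock M B') (hne' : B' ≠ {stIrr m F}) {χ : IrrCharacter (SLG m F)}
    {χ' : IrrCharacter (SLG m F)} (hχ : χ ∈ B) (hχ' : χ' ∈ B')
    (homg : ∀ s, IsScalar s → omg χ s = omg χ' s) : B = B' := by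
  by_contra hBB
  obtain ⟨A, z, hA, hz0, hzf, hprof, hz⟩ := hasProf_of_ne hM hm hB hne
  have h1 := topEl_mul_of_prof hM hB hB hχ hχ (fun _ _ => rfl) hA hzf hprof hz
  have hc : ((Finset.univ.filter (IsScalar (F := F) (m := m))).card : kres M) ≠ 0 := fun h0 => by
    rw [hz, h0, zero_mul, zero_smul] at h1
    exact hz0 h1
  have h2 := topEl_mul_of_prof hM hB hB' hχ hχ' homg hA hzf hprof hz
  rw [← hz, ← mul_assoc, (isBlockIdem_topEl hB').orthogonal (isBlockIdem_topEl hB)
    (fun e => hBB (topEl_injective hB' hB e).symm), zero_mul, hz, eq_comm, smul_eq_zero,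
    mul_eq_zero] at h2
  exact coeff_one_ne_zero_of_hasProf hM hB' (hasProf_of_ne hM hm hB' hne')
    ((h2.resolve_right hz0).resolve_left hc)

end CfsgLib.SlBlocks
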