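import Cfsg.Agent.SlBlocks.Profiles
import Cfsg.Agent.Unipotent.Bruhat

/-!
A central element supported on `p`-regular elements acts on a vector killed by a simple operator
through its coefficients at scalar matrices, and on a Steinberg vector by a scalar depending only
on the element.
-/

set_option autoImplicit false

open scoped Classical MonoidAlgebra

namespace CfsgLib.SlBlocks

open CfsgLib.Classical.Linear

variable {F : Type*} [Field F] {m : ℕ}

/-- Scalar matrices. -/
def IsScalar (g : SLG m F) : Prop := IsDiag g ∧ ∀ a b, ent g a a = ent g b b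

theorem IsScalar.commute {z : SLG m F} (h : IsScalar z) (g : SLG m F) : z * g = g * z :=
  slg_ext fun a b => by rw [h.1.ent_mul, h.1.ent_mul_right, h.2 a b, mul_comm]

theorem exists_mono (g : SLG m F) : ∃ u ∈ UU m F, ∃ v ∈ UU m F, ∃ (n : SLG m F)
    (σ : Equiv.Perm (Fin (m + 1))), IsMono n σ ∧ g = u * n * v := by
  obtain ⟨b, b', σ, hb, hb', e⟩ :=
    CfsgLib.Unipotent.exists_bruhat (Matrix.SpecialLinearGroup.toGL g)
  have hdet : ∀ b : GL (Fin (m + 1)) F, CfsgLib.Unipotent.IsUpper b →
      ∀ i, (b : Matrix (Fin (m + 1)) (Fin (m + 1)) F) i i ≠ 0 := by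
    intro b hb i h0
    have h := (Matrix.isUnits_det_units b).ne_zero
    rw [Matrix.det_of_isUpperTriangular (fun i j h => hb i j h),
      Finset.prod_eq_zero (f := fun i => (b : Matrix (Fin (m + 1)) (Fin (m + 1)) F) i i)
        (Finset.mem_univ i) h0] at h
    exact h rfl
  -- split off the unitriangular parts
  let dL : Fin (m + 1) → F := fun i => (b : Matrix (Fin (m + 1)) (Fin (m + 1)) F) i i
  let dR : Fin (m + 1) → F := fun i => (b' : Matrix (Fin (m + 1)) (Fin (m + 1)) F) i i
  let uM : Matrix (Fin (m + 1)) (Fin (m + 1)) F :=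
    Matrix.of fun i j => (dL i)⁻¹ * (b : Matrix (Fin (m + 1)) (Fin (m + 1)) F) i j
  let vM : Matrix (Fin (m + 1)) (Fin (m + 1)) F :=
    Matrix.of fun i j => (b' : Matrix (Fin (m + 1)) (Fin (m + 1)) F) i j * (dR j)⁻¹
  have huU : ∀ i j, j < i → uM i j = 0 := fun i j h => by simp [uM, hb i j h]
  have hvU : ∀ i j, j < i → vM i j = 0 := fun i j h => by simp [vM, hb' i j h]
  have hu1 : ∀ i, uM i i = 1 := fun i => inv_mul_cancel₀ (hdet b hb i)
  have hv1 : ∀ i, vM i i = 1 := fun i => mul_inv_cancel₀ (hdet b' hb' i)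
  let u : SLG m F := ⟨uM, by
    rw [Matrix.det_of_isUpperTriangular huU]; exact Finset.prod_eq_one fun i _ => hu1 i⟩
  let v : SLG m F := ⟨vM, by
    rw [Matrix.det_of_isUpperTriangular hvU]; exact Finset.prod_eq_one fun i _ => hv1 i⟩
  refine ⟨u⁻¹, inv_mem (mem_UU.2 ⟨huU, hu1⟩), v⁻¹, inv_mem (mem_UU.2 ⟨hvU, hv1⟩), u * g * v, σ,
    fun a c => ?_, by group⟩
  have hM : ((u * g * v : SLG m F) : Matrix (Fin (m + 1)) (Fin (m + 1)) F) =
      uM * (g : Matrix (Fin (m + 1)) (Fin (m + 1)) F) * vM := rfl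
  have key : ent (u * g * v) a c = (dL a)⁻¹ * (if a = σ c then 1 else 0) * (dR c)⁻¹ := by
    have he : ((b : Matrix (Fin (m + 1)) (Fin (m + 1)) F) * (g : Matrix (Fin (m + 1)) (Fin (m + 1)) F) *
        (b' : Matrix (Fin (m + 1)) (Fin (m + 1)) F)) a c = if a = σ c then 1 else 0 := by
      have := congrArg (fun x : GL (Fin (m + 1)) F => (x : Matrix _ _ F) a c) e
      simpa [CfsgLib.Unipotent.coe_pm, CfsgLib.Unipotent.pmMat] using this
    show ((u * g * v : SLG m F) : Matrix (Fin (m + 1)) (Fin (m + 1)) F) a c = _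
    rw [hM, ← he]
    simp only [Matrix.mul_apply, uM, vM, Matrix.of_apply, Finset.mul_sum, Finset.sum_mul]
    exact Finset.sum_congr rfl fun _ _ => Finset.sum_congr rfl fun _ _ => by ring
  rw [key]
  have h1 := hdet b hb a
  have h2 := hdet b' hb' c
  split_ifs with h
  · subst h; simp [h1, h2, dL, dR]
  · simp [h]

section Parabolic

/-- The maximal parabolic stabilising the span of the first `i + 1` basis vectors. -/
def InP (i : Fin m) (g : SLG m F) : Prop :=
  ∀ a b, b ≤ i.castSucc → i.castSucc < a → ent g a b = 0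

theorem InP.mul {i : Fin m} {g h : SLG m F} (hg : InP i g) (hh : InP i h) : InP i (g * h) := by
  intro a b hb ha
  rw [ent_mul]
  refine Finset.sum_eq_zero fun c _ => ?_
  rcases le_or_gt c i.castSucc with hc | hc
  · rw [hg a c hc ha, zero_mul]
  · rw [hh c b hb hc, mul_zero]

theorem inP_of_mem {i : Fin m} {u : SLG m F} (hu : u ∈ UU m F) : InP i u :=
  fun a b hb ha => (mem_UU.1 hu).1 a b (hb.trans_lt ha)

theorem inP_one (i : Fin m) : InP i (1 : SLG m F) := inP_of_mem (one_mem _)

theorem IsDiag.inP {d : SLG m F} (hd : IsDiag d) (i : Fin m) : InP i d :=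
  fun a b hb ha => hd a b (hb.trans_lt ha).ne'

/-- Membership in the unipotent radical. -/
def InQ (i : Fin m) (g : SLG m F) : Prop :=
  ∀ a b, (i.castSucc < a ∨ b ≤ i.castSucc) → ent g a b = if a = b then 1 else 0

theorem InQ.mul {i : Fin m} {g h : SLG m F} (hg : InQ i g) (hh : InQ i h) : InQ i (g * h) := by
  intro a b hab
  rw [ent_mul]
  rcases hab with ha | hb
  · rw [Finset.sum_eq_single a (fun c _ hc => by rw [hg a c (Or.inl ha), if_neg hc.symm, zero_mul])
      (by simp), hg a a (Or.inl ha), if_pos rfl, one_mul, hh a b (Or.inl ha)]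
  · rw [Finset.sum_eq_single b (fun c _ hc => by rw [hh c b (Or.inr hb), if_neg hc, mul_zero])
      (by simp), hh b b (Or.inr hb), if_pos rfl, mul_one, hg a b (Or.inr hb)]

theorem InQ.mem_UU {i : Fin m} {g : SLG m F} (hg : InQ i g) : g ∈ UU m F := by
  refine SlBlocks.mem_UU.2 ⟨fun a b h => ?_, fun a => ?_⟩
  · rcases le_or_gt b i.castSucc with hb | hb
    · rw [hg a b (Or.inr hb), if_neg h.ne']
    · rw [hg a b (Or.inl (hb.trans h)), if_neg h.ne']
  · rcases le_or_gt a i.castSucc with hb | hb
    · rw [hg a a (Or.inr hb), if_pos rfl]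
    · rw [hg a a (Or.inl hb), if_pos rfl]

variable [Fintype F]

theorem inP_inv {i : Fin m} {g : SLG m F} (hg : InP i g) : InP i g⁻¹ := by
  have hpow : ∀ r : ℕ, InP i (g ^ r) := by
    intro r
    induction r with
    | zero => rw [pow_zero]; exact inP_one i
    | succ r ih => rw [pow_succ]; exact ih.mul hg
  have h : g⁻¹ = g ^ (orderOf g - 1) := by
    rw [inv_eq_iff_mul_eq_one, ← pow_succ', Nat.sub_add_cancel (orderOf_pos g), pow_orderOf_eq_one]
  rw [h]; exact hpow _

/-- The unipotent radical as a subgroup. -/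
noncomputable def rad (i : Fin m) : Subgroup (SLG m F) where
  carrier := {g | InQ i g}
  one_mem' := fun a b _ => ent_one a b
  mul_mem' := InQ.mul
  inv_mem' := by
    intro g hg
    have hpow : ∀ r : ℕ, InQ i (g ^ r) := by
      intro r
      induction r with
      | zero => rw [pow_zero]; exact fun a b _ => ent_one a b
      | succ r ih => rw [pow_succ]; exact ih.mul hg
    have h : g⁻¹ = g ^ (orderOf g - 1) := by
      rw [inv_eq_iff_mul_eq_one, ← pow_succ', Nat.sub_add_cancel (orderOf_pos g), pow_orderOf_eq_one]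
    show InQ i g⁻¹
    rw [h]; exact hpow _

theorem mem_rad {i : Fin m} {g : SLG m F} : g ∈ rad i ↔ InQ i g := Iff.rfl

theorem rad_le (i : Fin m) : (rad i : Subgroup (SLG m F)) ≤ UU m F := fun _ h => InQ.mem_UU h

omit [Fintype F] in
theorem transvection_inQ {i : Fin m} {a b : Fin (m + 1)} (ha : a ≤ i.castSucc)
    (hb : i.castSucc < b) (c : F) :
    InQ i (Matrix.SpecialLinearGroup.transvection (ha.trans_lt hb).ne c : SLG m F) := by
  intro x y hxy
  rw [← mul_one (Matrix.SpecialLinearGroup.transvection (ha.trans_lt hb).ne c : SLG m F),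
    ent_tv_mul, ent_one]
  split_ifs with h1 h2 h2
  · subst h1; subst h2
    rw [ent_one, if_neg (ha.trans_lt hb).ne', mul_zero, add_zero]
  · simp
  · subst h2
    rw [ent_one]
    split_ifs with h3
    · subst h3
      rcases hxy with h | h
      · exact absurd ha h.not_ge
      · exact absurd hb h.not_gt
    · simp
  · simp

theorem conj_rad_mem {i : Fin m} {g q : SLG m F} (hg : InP i g) (hq : InQ i q) :
    g⁻¹ * q * g ∈ UU m F := by
  set N : Fin (m + 1) → Fin (m + 1) → F := fun a b => ent q a b - if a = b then 1 else 0 with hN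
  have hN0 : ∀ a b, i.castSucc < a ∨ b ≤ i.castSucc → N a b = 0 := fun a b h => by
    simp [hN, hq a b h]
  have hsplit : ∀ a b, ent (g⁻¹ * q * g) a b =
      (if a = b then 1 else 0) + ∑ c, ∑ d, ent g⁻¹ a c * N c d * ent g d b := by
    intro a b
    have h1 : ∀ a d, ent (g⁻¹ * q) a d = ent g⁻¹ a d + ∑ c, ent g⁻¹ a c * N c d := by
      intro a d
      rw [ent_mul, hN]
      simp [mul_sub, Finset.sum_sub_distrib]
    have h2 : ∑ d, ent g⁻¹ a d * ent g d b = if a = b then 1 else 0 := by
      rw [← ent_mul, inv_mul_cancel, ent_one]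
    rw [ent_mul, Finset.sum_congr rfl fun d _ => by rw [h1, add_mul, Finset.sum_mul],
      Finset.sum_add_distrib, h2, Finset.sum_comm]
  have hz : ∀ a b, (i.castSucc < a ∨ b ≤ i.castSucc) →
      ∑ c, ∑ d, ent g⁻¹ a c * N c d * ent g d b = 0 := by
    intro a b hab
    refine Finset.sum_eq_zero fun c _ => Finset.sum_eq_zero fun d _ => ?_
    rcases le_or_gt c i.castSucc with hc | hc
    · rcases le_or_gt d i.castSucc with hd | hd
      · rw [hN0 c d (Or.inr hd)]; simp
      · rcases hab with ha | hb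
        · rw [inP_inv hg a c hc ha]; simp
        · rw [hg d b hb hd]; simp
    · rw [hN0 c d (Or.inl hc)]; simp
  refine InQ.mem_UU (i := i) fun a b hab => ?_
  rw [hsplit, hz a b hab, add_zero]

theorem structure_of_commute {i : Fin m} {x : SLG m F}
    (hx : ∀ q ∈ rad i, q * x = x * q) :
    ∃ s, IsScalar s ∧ ∃ u ∈ UU m F, x = s * u := by
  have key : ∀ a b, ∀ ha : a ≤ i.castSucc, ∀ hb : i.castSucc < b, ∀ r c,
      (if r = a then ent x b c else 0) = (if c = b then ent x r a else 0) := by
    intro a b ha hb r c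
    have h := congrArg (fun z : SLG m F => ent z r c)
      (hx _ (mem_rad.2 (transvection_inQ ha hb (1 : F))))
    simp only [ent_tv_mul, ent_mul_tv, one_mul, mul_one] at h
    exact add_left_cancel h
  have hi : i.castSucc < i.succ := Fin.castSucc_lt_succ
  set lam := ent x i.succ i.succ with hlam
  have hcol : ∀ a, a ≤ i.castSucc → ∀ r, r ≠ a → ent x r a = 0 := fun a ha r hr => by
    have := key a i.succ ha hi r i.succ
    rw [if_neg hr, if_pos rfl] at this
    exact this.symm
  have hrow : ∀ b, i.castSucc < b → ∀ c, c ≠ b → ent x b c = 0 := fun b hb c hc => by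
    have := key i.castSucc b le_rfl hb i.castSucc c
    rw [if_pos rfl, if_neg hc] at this
    exact this
  have heq : ∀ a b, a ≤ i.castSucc → i.castSucc < b → ent x b b = ent x a a := fun a b ha hb => by
    have := key a b ha hb a b
    rwa [if_pos rfl, if_pos rfl] at this
  have hdiag : ∀ a, ent x a a = lam := by
    intro a
    rcases le_or_gt a i.castSucc with ha | ha
    · exact (heq a i.succ ha hi).symm
    · rw [heq i.castSucc a le_rfl ha, hlam, heq i.castSucc i.succ le_rfl hi]
  have hup : ∀ a b, b < a → ent x a b = 0 := by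
    intro a b hba
    rcases le_or_gt b i.castSucc with hb | hb
    · exact hcol b hb a hba.ne'
    · exact hrow a (hb.trans hba) b hba.ne
  have hdet : lam ^ (m + 1) = 1 := by
    have h := x.2
    rw [Matrix.det_of_isUpperTriangular (M := (x : Matrix _ _ F)) (fun a b h => hup a b h)] at h
    simp only [show ∀ a, (x : Matrix (Fin (m + 1)) (Fin (m + 1)) F) a a = lam from hdiag,
      Finset.prod_const, Finset.card_univ, Fintype.card_fin] at h
    exact h
  let s : SLG m F := ⟨Matrix.diagonal fun _ => lam, by simp [hdet]⟩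
  have hs : IsDiag s := fun a b h => by simp [s, ent, Matrix.diagonal_apply_ne _ h]
  have hss : ∀ a, ent s a a = lam := fun a => by simp [s, ent]
  refine ⟨s, ⟨hs, fun a b => by rw [hss, hss]⟩, s⁻¹ * x, mem_UU.2 ?_, by group⟩
  have he : ∀ a b, lam * ent (s⁻¹ * x) a b = ent x a b := fun a b => by
    rw [← hss a, ← hs.ent_mul, ← mul_assoc, mul_inv_cancel, one_mul]
  have hl0 : lam ≠ 0 := hss 0 ▸ hs.ne_zero 0
  refine ⟨fun a b h => ?_, fun a => ?_⟩
  · have := he a b
    rw [hup a b h, mul_eq_zero] at this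
    exact this.resolve_left hl0
  · have := he a a
    rw [hdiag, mul_eq_left₀ hl0] at this
    exact this

end Parabolic

section Action

variable [Fintype F] {p : ℕ} [Fact p.Prime] [CharP F p]

theorem pow_card_sub_one_of_scalar {s : SLG m F} (hs : IsScalar s) :
    s ^ (Fintype.card F - 1) = 1 := by
  have hpow : ∀ r : ℕ, IsDiag (s ^ r) ∧ ∀ a, ent (s ^ r) a a = ent s a a ^ r := by
    intro r
    induction r with
    | zero => simp [isDiag_one, ent_one]
    | succ r ih =>
      rw [pow_succ]
      exact ⟨ih.1.mul hs.1, fun a => by rw [ih.1.ent_mul, ih.2, pow_succ]⟩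
  refine slg_ext fun a b => ?_
  rw [ent_one]
  rcases eq_or_ne a b with rfl | h
  · rw [if_pos rfl, (hpow _).2, FiniteField.pow_card_sub_one_eq_one _ (hs.1.ne_zero a)]
  · rw [if_neg h, (hpow _).1 a b h]

include p in
theorem not_dvd_orderOf_scalar {s : SLG m F} (hs : IsScalar s) : ¬ p ∣ orderOf s := fun h => by
  have h1 := h.trans (orderOf_dvd_of_pow_eq_one (pow_card_sub_one_of_scalar hs))
  have h2 : p ∣ Fintype.card F :=
    (CharP.cast_eq_zero_iff F p _).1 (FiniteField.cast_card_eq_zero F)
  have h3 : p ∣ 1 := (Nat.dvd_add_right h1).1 (by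
    rwa [Nat.sub_add_cancel (Fintype.card_pos (α := F))])
  exact (Fact.out : p.Prime).one_lt.ne' (Nat.dvd_one.1 h3)

include p in
theorem isScalar_of_regular {i : Fin m} {x : SLG m F} (hx : ∀ q ∈ rad i, q * x = x * q)
    (hreg : ¬ p ∣ orderOf x) : IsScalar x := by
  obtain ⟨s, hs, u, hu, rfl⟩ := structure_of_commute hx
  obtain ⟨r, hr⟩ := (IsPGroup.iff_orderOf.1 (isPGroup_upperUnitriSL (n := m + 1) (F := F) (p := p)))
    ⟨u, hu⟩
  rw [Subgroup.orderOf_mk] at hr
  have hc : Commute s u := hs.commute u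
  rcases Nat.eq_zero_or_pos r with rfl | hr0
  · rw [pow_zero, orderOf_eq_one_iff] at hr
    rw [hr, mul_one]; exact hs
  · exfalso
    refine hreg ?_
    have hcop : (orderOf s).Coprime (orderOf u) := by
      rw [hr]
      exact Nat.Coprime.pow_right _
        (((Fact.out : p.Prime).coprime_iff_not_dvd.2 (not_dvd_orderOf_scalar hs)).symm)
    rw [hc.orderOf_mul_eq_mul_orderOf_of_coprime hcop, hr]
    exact dvd_mul_of_dvd_right (dvd_pow_self p hr0.ne') _

variable {k : Type*} [Field k] [CharP k p]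

/-- The hypotheses on a block idempotent used here. -/
structure IsCentralReg (p : ℕ) (e : k[SLG m F]) : Prop where
  comm : ∀ g, dl k g * e = e * dl k g
  reg : ∀ g, p ∣ orderOf g → e.coeff g = 0

omit [Fact p.Prime] [CharP k p] in
theorem IsCentralReg.conj {e : k[SLG m F]} (he : IsCentralReg p e) (g x : SLG m F) :
    e.coeff (g * x * g⁻¹) = e.coeff x := by
  rw [mul_assoc, coeff_comm he.comm, mul_assoc, inv_mul_cancel, mul_one]

omit [Fact p.Prime] [CharP k p] in
theorem sum_coset_orbit {e : k[SLG m F]} (he : IsCentralReg p e) {g u v : SLG m F}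
    (hu : u ∈ UU m F) (hv : v ∈ UU m F) :
    ∑ w : UU m F, e.coeff (u * g * v * w) = ∑ w : UU m F, e.coeff (g * w) := by
  refine Fintype.sum_equiv ((Equiv.mulLeft (⟨v, hv⟩ : UU m F)).trans
    (Equiv.mulRight (⟨u, hu⟩ : UU m F))) _ _ fun w => ?_
  simp only [Equiv.trans_apply, Equiv.coe_mulLeft, Equiv.coe_mulRight, Subgroup.coe_mul]
  rw [← he.conj u⁻¹ (u * g * v * w)]
  congr 1
  group

/-- The part of `e` on scalar matrices. -/
noncomputable def scalarPart (e : k[SLG m F]) : k[SLG m F] :=
  ∑ g ∈ Finset.univ.filter IsScalar, e.coeff g • dl k g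

omit [Fintype F] in
theorem coeff_scalarPart [Fintype F] (e : k[SLG m F]) (g : SLG m F) :
    (scalarPart e).coeff g = if IsScalar g then e.coeff g else 0 := by
  simp only [scalarPart, MonoidAlgebra.coeff_sum, Finset.sum_filter, dl]
  rw [Finset.sum_apply' g, Finset.sum_eq_single g]
  · split_ifs <;> simp
  · intro b _ hb
    split_ifs <;> simp [hb]
  · simp

include p in
theorem sum_coset_inP {e : k[SLG m F]} (he : IsCentralReg p e) {i : Fin m} {g : SLG m F}
    (hg : InP i g) : ∑ v : UU m F, e.coeff (g * v) = ∑ v : UU m F, (scalarPart e).coeff (g * v) := by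
  have hrad : IsPGroup p (rad i : Subgroup (SLG m F)) :=
    (isPGroup_upperUnitriSL (n := m + 1) (F := F) (p := p)).to_le (rad_le i)
  letI : MulAction (rad i : Subgroup (SLG m F)) (SLG m F) :=
    MulAction.compHom (SLG m F)
      ((MulAut.conj : SLG m F →* MulAut (SLG m F)).comp (rad i : Subgroup (SLG m F)).subtype)
  have hsmul : ∀ (q : ↥(rad i : Subgroup (SLG m F))) (x : SLG m F),
      q • x = Subtype.val q * x * (Subtype.val q)⁻¹ := by intro q x; rfl
  have hsum : ∀ a : SLG m F → k, ∑ v : UU m F, a (g * v) =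
      ∑ x : SLG m F, if g⁻¹ * x ∈ UU m F then a x else 0 := by
    intro a
    rw [← Finset.sum_filter]
    refine Finset.sum_bij (fun v _ => g * (v : SLG m F)) (fun v _ => by simp)
      (fun v _ w _ h => Subtype.ext (mul_left_cancel h))
      (fun x hx => ⟨⟨g⁻¹ * x, (Finset.mem_filter.1 hx).2⟩, Finset.mem_univ _, by simp⟩)
      (fun _ _ => rfl)
  have hcoset : ∀ (q : ↥(rad i : Subgroup (SLG m F))) (x : SLG m F),
      g⁻¹ * (q • x) ∈ UU m F ↔ g⁻¹ * x ∈ UU m F := by
    intro q x
    rw [hsmul, show g⁻¹ * ((q : SLG m F) * x * (q : SLG m F)⁻¹) =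
      (g⁻¹ * (q : SLG m F) * g) * (g⁻¹ * x) * (q : SLG m F)⁻¹ by group,
      Subgroup.mul_mem_cancel_right _ (inv_mem (rad_le i q.2)),
      Subgroup.mul_mem_cancel_left _ (conj_rad_mem hg q.2)]
  have hconj : ∀ (q : ↥(rad i : Subgroup (SLG m F))) (x : SLG m F),
      (scalarPart e).coeff (q • x) = (scalarPart e).coeff x := by
    intro q x
    rw [hsmul, coeff_scalarPart, coeff_scalarPart]
    by_cases hsc : IsScalar x
    · rw [← hsc.commute (q : SLG m F), mul_inv_cancel_right]
    · rw [if_neg hsc, if_neg]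
      intro h
      apply hsc
      have e2 := h.commute (q : SLG m F)
      rw [inv_mul_cancel_right] at e2
      rwa [← mul_left_cancel e2] at h
  haveI : Fintype (MulAction.fixedPoints (rad i : Subgroup (SLG m F)) (SLG m F)) := Fintype.ofFinite _
  rw [hsum (fun x => e.coeff x), hsum (fun x => (scalarPart e).coeff x),
    CfsgLib.CharTable.sum_eq_sum_fixedPoints (P := ↥(rad i : Subgroup (SLG m F))) (X := SLG m F) hrad
      (fun x => if g⁻¹ * x ∈ UU m F then e.coeff x else 0)
      (fun q x => by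
        show (if g⁻¹ * (q • x) ∈ UU m F then e.coeff (q • x) else 0) = _
        rw [if_congr (hcoset q x) rfl rfl, hsmul, he.conj]),
    CfsgLib.CharTable.sum_eq_sum_fixedPoints (P := ↥(rad i : Subgroup (SLG m F))) (X := SLG m F) hrad
      (fun x => if g⁻¹ * x ∈ UU m F then (scalarPart e).coeff x else 0)
      (fun q x => by
        show (if g⁻¹ * (q • x) ∈ UU m F then (scalarPart e).coeff (q • x) else 0) = _
        rw [if_congr (hcoset q x) rfl rfl, hconj])]
  refine Finset.sum_congr rfl fun x _ => ?_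
  show (if g⁻¹ * (x : SLG m F) ∈ UU m F then e.coeff (x : SLG m F) else 0) =
    if g⁻¹ * (x : SLG m F) ∈ UU m F then (scalarPart e).coeff (x : SLG m F) else 0
  refine if_congr Iff.rfl ?_ rfl
  rw [coeff_scalarPart]
  split_ifs with hs
  · rfl
  · refine he.reg _ (not_not.1 fun hreg => hs (isScalar_of_regular (i := i) (fun q hq => ?_) hreg))
    exact mul_inv_eq_iff_eq_mul.1 (x.2 ⟨q, hq⟩)

include p in
/-- On a vector killed by a simple operator only the scalar part acts. -/
theorem mul_of_prof {e : k[SLG m F]} (he : IsCentralReg p e) {A : Set (Fin m)}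
    (hA : A.Nonempty) {z : k[SLG m F]} (hz : IsFix (UU m F) z) (h : Prof A z) :
    e * z = scalarPart e * z := by
  obtain ⟨i, hi⟩ := hA
  rw [mul_eq_sum_cosets hz, mul_eq_sum_cosets hz (scalarPart e),
    ← sub_eq_zero, ← Finset.sum_sub_distrib]
  simp only [← sub_smul]
  set f : SLG m F ⧸ UU m F → k[SLG m F] := fun c =>
    (∑ v : UU m F, e.coeff (c.out * v) - ∑ v : UU m F, (scalarPart e).coeff (c.out * v)) •
      (dl k c.out * z) with hf
  show ∑ c, f c = 0
  rw [← Finset.sum_fiberwise Finset.univ (fun c => orb (UU m F) c.out) f]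
  refine Finset.sum_eq_zero fun O _ => ?_
  by_cases hO : ∃ c : SLG m F ⧸ UU m F, orb (UU m F) c.out = O
  swap
  · exact Finset.sum_eq_zero fun c hc => absurd ⟨c, (Finset.mem_filter.1 hc).2⟩ hO
  obtain ⟨c₀, rfl⟩ := hO
  obtain ⟨u, hu, v, hv, n, σ, hn, hc₀⟩ := exists_mono c₀.out
  have horb : orb (UU m F) c₀.out = orb (UU m F) n := orb_eq_of_mem hu hv hc₀
  by_cases hP : InP i n
  · refine Finset.sum_eq_zero fun c hc => ?_
    have hmem : c ∈ orb (UU m F) n := by
      rw [← horb, ← (Finset.mem_filter.1 hc).2]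
      have := self_mem_orb (UU m F) c.out
      rwa [QuotientGroup.out_eq'] at this
    obtain ⟨u', hu', v', hv', hcout⟩ := orb_out hmem
    rw [hf]
    simp only
    rw [sum_coset_inP he (hcout ▸ ((inP_of_mem hu').mul hP).mul (inP_of_mem hv')), sub_self,
      zero_smul]
  · have hnP : ¬ ∀ a b, b ≤ i.castSucc → i.castSucc < a → ent n a b = 0 := hP
    push Not at hnP
    obtain ⟨a, b, hb, ha, hne⟩ := hnP
    have hmov : Moves i σ := ⟨b, hb, ((hn a b).1 hne) ▸ ha⟩
    have hfilter : Finset.univ.filter (fun c : SLG m F ⧸ UU m F => orb (UU m F) c.out =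
        orb (UU m F) c₀.out) = orb (UU m F) n := by
      ext c
      rw [Finset.mem_filter, and_iff_right (Finset.mem_univ _), horb]
      constructor
      · intro h'
        rw [← h']
        have := self_mem_orb (UU m F) c.out
        rwa [QuotientGroup.out_eq'] at this
      · intro h'
        obtain ⟨u', hu', v', hv', e'⟩ := orb_out h'
        exact orb_eq_of_mem hu' hv' e'
    rw [hfilter]
    have hconst : ∀ c ∈ orb (UU m F) n, f c = (∑ w : UU m F, e.coeff (n * w)) • (dl k c.out * z) := by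
      intro c hc
      obtain ⟨u', hu', v', hv', e'⟩ := orb_out hc
      rw [hf]
      simp only
      have h0 : ∑ w : UU m F, (scalarPart e).coeff (c.out * w) = 0 := by
        refine Finset.sum_eq_zero fun w _ => ?_
        rw [coeff_scalarPart, if_neg fun hs => hP ?_]
        rw [show n = u'⁻¹ * (c.out * w) * (v' * w)⁻¹ by rw [e']; group]
        exact ((inP_of_mem (inv_mem hu')).mul (hs.1.inP i)).mul
          (inP_of_mem (inv_mem (mul_mem hv' w.2)))
      rw [h0, sub_zero, e', sum_coset_orbit he hu' hv']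
    rw [Finset.sum_congr rfl hconst, ← Finset.smul_sum, ← tel_mul,
      tel_eq_zero_of_prof hz h hn hi hmov, smul_zero]

include p in
/-- On Steinberg vectors `e` acts by one scalar. -/
theorem mul_of_stVec {e : k[SLG m F]} (he : IsCentralReg p e) :
    ∃ φ : k, ∀ y : k[SLG m F], IsStVec y → e * y = φ • y := by
  let O : Finset (Finset (SLG m F ⧸ UU m F)) :=
    Finset.univ.image fun c : SLG m F ⧸ UU m F => orb (UU m F) c.out
  let fib : Finset (SLG m F ⧸ UU m F) → Finset (SLG m F ⧸ UU m F) := fun o =>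
    Finset.univ.filter fun c => orb (UU m F) c.out = o
  have hfib : ∀ o ∈ O, ∃ c : k, ∀ y : k[SLG m F], IsStVec y →
      ∑ c ∈ fib o, (∑ v : UU m F, e.coeff (c.out * v)) • (dl k c.out * y) = c • y := by
    intro o ho
    obtain ⟨c₀, -, rfl⟩ := Finset.mem_image.1 ho
    obtain ⟨u, hu, v, hv, n, σ, hn, hc₀⟩ := exists_mono c₀.out
    have horb : orb (UU m F) c₀.out = orb (UU m F) n := orb_eq_of_mem hu hv hc₀
    have hfilter : fib (orb (UU m F) c₀.out) = orb (UU m F) n := by
      ext c
      simp only [fib]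
      rw [Finset.mem_filter, and_iff_right (Finset.mem_univ _), horb]
      constructor
      · intro h'
        rw [← h']
        have := self_mem_orb (UU m F) c.out
        rwa [QuotientGroup.out_eq'] at this
      · intro h'
        obtain ⟨u', hu', v', hv', e'⟩ := orb_out h'
        exact orb_eq_of_mem hu' hv' e'
    refine ⟨(∑ w : UU m F, e.coeff (n * w)) * ((Equiv.Perm.sign σ : ℤ) : k), fun y hy => ?_⟩
    rw [hfilter, ← smul_smul, ← hy.tel hn, tel_mul, Finset.smul_sum]
    refine Finset.sum_congr rfl fun c hc => ?_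
    obtain ⟨u', hu', v', hv', e'⟩ := orb_out hc
    rw [e', sum_coset_orbit he hu' hv']
  choose! c hc using hfib
  refine ⟨∑ o ∈ O, c o, fun y hy => ?_⟩
  rw [mul_eq_sum_cosets hy.fix, Finset.sum_smul,
    ← Finset.sum_fiberwise_of_maps_to (t := O) (g := fun c : SLG m F ⧸ UU m F => orb (UU m F) c.out)
      (fun c _ => Finset.mem_image_of_mem _ (Finset.mem_univ c))]
  exact Finset.sum_congr rfl fun o ho => hc o ho y hy

end Action

end CfsgLib.SlBlocks
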