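import Mathlib
import Cfsg.Agent.Classical.Linear.Basic

/-!
Simple root elements, their Weyl representatives and coroots in `SL_{m+1}`, with their action on
rows and columns.
-/

set_option autoImplicit false

open scoped Classical

namespace CfsgLib.SlBlocks

open Matrix

variable {F : Type*} [Field F] {m : ℕ}

/-- `SL_{m+1}(F)`. -/
abbrev SLG (m : ℕ) (F : Type*) [Field F] := Matrix.SpecialLinearGroup (Fin (m + 1)) F

/-- An entry. -/
abbrev ent (g : SLG m F) (a b : Fin (m + 1)) : F := (g : Matrix (Fin (m + 1)) (Fin (m + 1)) F) a b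

theorem slg_ext {g h : SLG m F} (H : ∀ a b, ent g a b = ent h a b) : g = h :=
  Matrix.SpecialLinearGroup.ext _ _ H

theorem ent_mul (g h : SLG m F) (a b : Fin (m + 1)) :
    ent (g * h) a b = ∑ k, ent g a k * ent h k b := by
  simp [ent, Matrix.SpecialLinearGroup.coe_mul, Matrix.mul_apply]

theorem ent_one (a b : Fin (m + 1)) : ent (1 : SLG m F) a b = if a = b then 1 else 0 := by
  simp [ent, Matrix.one_apply]

theorem ne_of_castSucc (j : Fin m) : j.castSucc ≠ j.succ := (Fin.castSucc_lt_succ (i := j)).ne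

theorem ne_of_succ (j : Fin m) : j.succ ≠ j.castSucc := (ne_of_castSucc j).symm

theorem ent_tv_mul {i j : Fin (m + 1)} (hij : i ≠ j) (c : F) (g : SLG m F) (k l : Fin (m + 1)) :
    ent (Matrix.SpecialLinearGroup.transvection hij c * g) k l =
      ent g k l + if k = i then c * ent g j l else 0 := by
  rw [ent_mul]
  simp_rw [show ∀ a b, ent (Matrix.SpecialLinearGroup.transvection hij c : SLG m F) a b = _ from
    fun a b => CfsgLib.Classical.Linear.transvection_apply hij c a b, add_mul, Finset.sum_add_distrib]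
  congr 1
  · simp [Matrix.one_apply]
  · by_cases hk : k = i
    · subst hk
      simp [ite_mul]
    · simp [hk]

theorem ent_mul_tv {i j : Fin (m + 1)} (hij : i ≠ j) (c : F) (g : SLG m F) (k l : Fin (m + 1)) :
    ent (g * Matrix.SpecialLinearGroup.transvection hij c) k l =
      ent g k l + if l = j then ent g k i * c else 0 := by
  rw [ent_mul]
  simp_rw [show ∀ a b, ent (Matrix.SpecialLinearGroup.transvection hij c : SLG m F) a b = _ from
    fun a b => CfsgLib.Classical.Linear.transvection_apply hij c a b, mul_add, Finset.sum_add_distrib]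
  congr 1
  · simp [Matrix.one_apply]
  · by_cases hl : l = j
    · subst hl
      simp [mul_ite]
    · simp [hl]

/-- The positive simple root element. -/
noncomputable def xx (j : Fin m) (t : F) : SLG m F :=
  Matrix.SpecialLinearGroup.transvection (ne_of_castSucc j) t

/-- The negative simple root element. -/
noncomputable def yy (j : Fin m) (t : F) : SLG m F :=
  Matrix.SpecialLinearGroup.transvection (ne_of_succ j) t

/-- The Weyl representative. -/
noncomputable def ww (j : Fin m) : SLG m F := xx j 1 * yy j (-1) * xx j 1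

theorem xx_add (j : Fin m) (s t : F) : xx j (s + t) = xx j s * xx j t :=
  Matrix.SpecialLinearGroup.transvection_add _ _ _

theorem xx_zero (j : Fin m) : xx j (0 : F) = 1 :=
  slg_ext fun a b => by
    have h := ent_tv_mul (ne_of_castSucc j) (0 : F) (1 : SLG m F) a b
    rw [mul_one] at h
    simpa [xx] using h

theorem ent_xx_mul (j : Fin m) (t : F) (g : SLG m F) (a b : Fin (m + 1)) :
    ent (xx j t * g) a b = if a = j.castSucc then ent g a b + t * ent g j.succ b else ent g a b := by
  rw [xx, ent_tv_mul]; split_ifs <;> simp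

theorem ent_mul_xx (j : Fin m) (t : F) (g : SLG m F) (a b : Fin (m + 1)) :
    ent (g * xx j t) a b = if b = j.succ then ent g a b + ent g a j.castSucc * t else ent g a b := by
  rw [xx, ent_mul_tv]; split_ifs <;> simp

theorem ent_yy_mul (j : Fin m) (t : F) (g : SLG m F) (a b : Fin (m + 1)) :
    ent (yy j t * g) a b = if a = j.succ then ent g a b + t * ent g j.castSucc b else ent g a b := by
  rw [yy, ent_tv_mul]; split_ifs <;> simp

theorem ent_mul_yy (j : Fin m) (t : F) (g : SLG m F) (a b : Fin (m + 1)) :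
    ent (g * yy j t) a b = if b = j.castSucc then ent g a b + ent g a j.succ * t else ent g a b := by
  rw [yy, ent_mul_tv]; split_ifs <;> simp

theorem ent_ww_mul (j : Fin m) (g : SLG m F) (a b : Fin (m + 1)) :
    ent (ww j * g) a b = if a = j.castSucc then ent g j.succ b
      else if a = j.succ then - ent g j.castSucc b else ent g a b := by
  simp only [ww, mul_assoc, ent_xx_mul, ent_yy_mul]
  rcases eq_or_ne a j.castSucc with rfl | h1
  · simp [ne_of_castSucc, ne_of_succ]
  · rcases eq_or_ne a j.succ with rfl | h2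
    · simp [ne_of_castSucc, ne_of_succ]
    · simp [h1, h2]

theorem ent_mul_ww (j : Fin m) (g : SLG m F) (a b : Fin (m + 1)) :
    ent (g * ww j) a b = if b = j.castSucc then - ent g a j.succ
      else if b = j.succ then ent g a j.castSucc else ent g a b := by
  simp only [ww, ← mul_assoc, ent_mul_xx, ent_mul_yy]
  rcases eq_or_ne b j.castSucc with rfl | h1
  · simp [ne_of_castSucc, ne_of_succ]
  · rcases eq_or_ne b j.succ with rfl | h2
    · simp [ne_of_castSucc, ne_of_succ]
    · simp [h1, h2]

/-- The diagonal matrix `diag(…, t, t⁻¹, …)`. -/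
noncomputable def hh (j : Fin m) (t : Fˣ) : SLG m F :=
  ⟨Matrix.diagonal fun a => if a = j.castSucc then (t : F) else if a = j.succ then ((t⁻¹ : Fˣ) : F) else 1, by
    rw [Matrix.det_diagonal, Finset.prod_eq_mul j.castSucc j.succ (ne_of_castSucc j)]
    · simp [ne_of_succ]
    · intro c _ hc; simp [hc.1, hc.2]
    · simp
    · simp⟩

/-- Diagonal. -/
def IsDiag (g : SLG m F) : Prop := ∀ a b, a ≠ b → ent g a b = 0

theorem isDiag_one : IsDiag (1 : SLG m F) := fun a b h => by simp [ent_one, h]

theorem isDiag_hh (j : Fin m) (t : Fˣ) : IsDiag (hh j t : SLG m F) := fun a b h => by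
  simp [ent, hh, Matrix.diagonal_apply_ne _ h]

theorem ent_hh (j : Fin m) (t : Fˣ) (a : Fin (m + 1)) :
    ent (hh j t : SLG m F) a a =
      if a = j.castSucc then (t : F) else if a = j.succ then ((t⁻¹ : Fˣ) : F) else 1 := by
  simp [ent, hh]

theorem IsDiag.ent_mul {d : SLG m F} (hd : IsDiag d) (g : SLG m F) (a b : Fin (m + 1)) :
    ent (d * g) a b = ent d a a * ent g a b := by
  rw [SlBlocks.ent_mul]
  exact Finset.sum_eq_single a (fun c _ hc => by rw [hd a c hc.symm, zero_mul]) (by simp)

theorem IsDiag.ent_mul_right {d : SLG m F} (hd : IsDiag d) (g : SLG m F) (a b : Fin (m + 1)) :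
    ent (g * d) a b = ent g a b * ent d b b := by
  rw [SlBlocks.ent_mul]
  exact Finset.sum_eq_single b (fun c _ hc => by rw [hd c b hc, mul_zero]) (by simp)

theorem IsDiag.mul {d d' : SLG m F} (hd : IsDiag d) (hd' : IsDiag d') : IsDiag (d * d') :=
  fun a b h => by rw [hd.ent_mul, hd' a b h, mul_zero]

theorem IsDiag.ne_zero {d : SLG m F} (hd : IsDiag d) (a : Fin (m + 1)) : ent d a a ≠ 0 := fun h => by
  have hdet := d.2
  rw [show (d : Matrix (Fin (m + 1)) (Fin (m + 1)) F) = Matrix.diagonal fun i => ent d i i from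
    Matrix.ext fun x y => by
      rcases eq_or_ne x y with rfl | hxy
      · simp
      · rw [Matrix.diagonal_apply_ne _ hxy]; exact hd x y hxy, Matrix.det_diagonal,
    Finset.prod_eq_zero (f := fun i => ent d i i) (Finset.mem_univ a) h] at hdet
  exact zero_ne_one hdet

theorem hh_mul (j : Fin m) (s t : Fˣ) : (hh j s : SLG m F) * hh j t = hh j (s * t) :=
  slg_ext fun a b => by
    rcases eq_or_ne a b with rfl | h
    · rw [(isDiag_hh j s).ent_mul, ent_hh, ent_hh, ent_hh]
      split_ifs <;> simp [mul_comm]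
    · rw [((isDiag_hh j s).mul (isDiag_hh j t)) a b h, isDiag_hh j (s * t) a b h]

theorem hh_one (j : Fin m) : (hh j 1 : SLG m F) = 1 :=
  slg_ext fun a b => by
    rcases eq_or_ne a b with rfl | h
    · simp [ent_hh, ent_one]
    · rw [isDiag_hh j 1 a b h, ent_one, if_neg h]

theorem IsDiag.commute {d d' : SLG m F} (hd : IsDiag d) (hd' : IsDiag d') : d * d' = d' * d :=
  slg_ext fun a b => by
    rw [hd.ent_mul, hd.ent_mul_right]
    rcases eq_or_ne a b with rfl | h
    · ring
    · rw [hd' a b h]; ring

/-- `w x(t) w = x(-1/t) w h(-t) x(-1/t)`. -/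
theorem ww_xx_ww (j : Fin m) (t : Fˣ) :
    ww j * xx j (t : F) * ww j = xx j (-((t : F)⁻¹)) * ww j * hh j (-t) * xx j (-((t : F)⁻¹)) := by
  have ht : (t : F) ≠ 0 := t.ne_zero
  refine slg_ext fun a b => ?_
  conv_lhs => rw [← mul_one (ww j * xx j (t : F) * ww j)]
  conv_rhs => rw [← mul_one (xx j (-((t : F)⁻¹)) * ww j * hh j (-t) * xx j (-((t : F)⁻¹)))]
  simp only [mul_assoc, ent_xx_mul, ent_ww_mul, (isDiag_hh j (-t)).ent_mul, ent_hh, ent_one]
  rcases eq_or_ne a j.castSucc with rfl | h1
  · rcases eq_or_ne b j.castSucc with rfl | h3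
    · simp [ne_of_castSucc, ne_of_succ, ht]
    · rcases eq_or_ne b j.succ with rfl | h4
      · simp [ne_of_castSucc, ne_of_succ, ht]
      · simp [ne_of_castSucc, ne_of_succ, h3.symm, h4.symm]
  · rcases eq_or_ne a j.succ with rfl | h2
    · rcases eq_or_ne b j.castSucc with rfl | h3
      · simp [ne_of_castSucc, ne_of_succ, ht]
      · rcases eq_or_ne b j.succ with rfl | h4
        · simp [ne_of_castSucc, ne_of_succ, ht]
        · simp [ne_of_castSucc, ne_of_succ, h3.symm, h4.symm]
    · simp [h1, h2]

theorem ww_mul_ww (j : Fin m) : (ww j : SLG m F) * ww j = hh j (-1) := by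
  refine slg_ext fun a b => ?_
  conv_lhs => rw [← mul_one (ww j * ww j)]
  simp only [mul_assoc, ent_ww_mul, ent_one]
  rcases eq_or_ne a b with rfl | h
  · rw [ent_hh]
    rcases eq_or_ne a j.castSucc with rfl | h1
    · simp [ne_of_succ]
    · rcases eq_or_ne a j.succ with rfl | h2
      · simp [ne_of_succ]
      · simp [h1, h2]
  · rw [isDiag_hh j (-1) a b h]
    rcases eq_or_ne a j.castSucc with rfl | h1
    · simp [ne_of_succ, h]
    · rcases eq_or_ne a j.succ with rfl | h2
      · simp [ne_of_succ, h]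
      · simp [h1, h2, h]

theorem hh_neg_one_sq (j : Fin m) : (hh j (-1) : SLG m F) * hh j (-1) = 1 := by
  rw [hh_mul]; simp [hh_one]

/-- Moving a diagonal matrix across the Weyl representative. -/
theorem IsDiag.ww_mul {d : SLG m F} (hd : IsDiag d) (j : Fin m) :
    ww j * d = d * hh j (Units.mk0 _ (hd.ne_zero j.succ) / Units.mk0 _ (hd.ne_zero j.castSucc)) * ww j := by
  refine slg_ext fun a b => ?_
  conv_rhs => rw [← mul_one (d * hh j _ * ww j)]
  simp only [mul_assoc, ent_ww_mul, hd.ent_mul, (isDiag_hh j _).ent_mul, ent_hh, ent_one]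
  have hP := hd.ne_zero j.castSucc
  have hQ := hd.ne_zero j.succ
  rcases eq_or_ne a j.castSucc with rfl | h1
  · rcases eq_or_ne b j.succ with rfl | h4
    · simp [ne_of_castSucc, ne_of_succ]; field_simp
    · simp [ne_of_castSucc, ne_of_succ, hd j.succ b h4.symm, h4.symm]
  · rcases eq_or_ne a j.succ with rfl | h2
    · rcases eq_or_ne b j.castSucc with rfl | h4
      · simp [ne_of_castSucc, ne_of_succ]; field_simp
      · simp [ne_of_castSucc, ne_of_succ, hd j.castSucc b h4.symm, h4.symm]
    · rcases eq_or_ne a b with rfl | h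
      · simp [h1, h2]
      · simp [h1, h2, hd a b h, h]

theorem IsDiag.xx_mul {d : SLG m F} (hd : IsDiag d) (j : Fin m) (t : F) :
    xx j t * d = d * xx j (t * ent d j.succ j.succ / ent d j.castSucc j.castSucc) := by
  refine slg_ext fun a b => ?_
  rw [ent_xx_mul, ent_mul_xx]
  have hP := hd.ne_zero j.castSucc
  rcases eq_or_ne a j.castSucc with rfl | h1
  · rcases eq_or_ne b j.succ with rfl | h4
    · simp only [if_pos]; field_simp
    · simp only [if_pos, if_neg h4, hd j.succ b h4.symm]; simp
  · rw [if_neg h1]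
    split_ifs
    · rw [hd a j.castSucc h1]; simp
    · rfl

theorem xx_mul_ww (j : Fin m) (t : F) : xx j t * ww j = ww j * yy j (-t) := by
  refine slg_ext fun a b => ?_
  conv_lhs => rw [← mul_one (xx j t * ww j)]
  conv_rhs => rw [← mul_one (ww j * yy j (-t))]
  simp only [mul_assoc, ent_xx_mul, ent_yy_mul, ent_ww_mul, ent_one]
  rcases eq_or_ne a j.castSucc with rfl | h1
  · simp [ne_of_succ]; split_ifs <;> simp
  · rcases eq_or_ne a j.succ with rfl | h2
    · simp [ne_of_castSucc, ne_of_succ]
    · simp [h1, h2]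

end CfsgLib.SlBlocks
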