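import Cfsg.Agent.SlBlocks.Operators
import Cfsg.Agent.SlBlocks.Elements
import Cfsg.Agent.Classical.Linear.SylowP

/-!
The operators of the simple reflections on the unitriangular-fixed vectors of the group algebra
of `SL_{m+1}(q)` in the defining characteristic.
-/

set_option autoImplicit false

open scoped Classical MonoidAlgebra

namespace CfsgLib.SlBlocks

open CfsgLib.Classical.Linear

variable {F : Type*} [Field F] {m : ℕ}

/-- Upper unitriangular matrices. -/
abbrev UU (m : ℕ) (F : Type*) [Field F] : Subgroup (SLG m F) := upperUnitriSL (m + 1) F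

theorem mem_UU {g : SLG m F} :
    g ∈ UU m F ↔ (∀ a b, b < a → ent g a b = 0) ∧ ∀ a, ent g a a = 1 := Iff.rfl

theorem xx_mem (j : Fin m) (t : F) : xx j t ∈ UU m F := by
  refine mem_UU.2 ⟨fun a b h => ?_, fun a => ?_⟩ <;>
    rw [← mul_one (xx j t), ent_xx_mul] <;> simp only [ent_one]
  · rw [if_neg h.ne']
    split_ifs with h1 h2
    · subst h1; subst h2; exact absurd h (Fin.castSucc_lt_succ (i := j)).not_gt
    · simp
    · rfl
  · split_ifs with h1 h2
    · exact absurd (h2.trans h1) (ne_of_succ j)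
    · simp
    · rfl

/-- Monomial with underlying permutation `σ`. -/
def IsMono (g : SLG m F) (σ : Equiv.Perm (Fin (m + 1))) : Prop :=
  ∀ a b, ent g a b ≠ 0 ↔ a = σ b

theorem IsMono.eq_zero {g : SLG m F} {σ : Equiv.Perm (Fin (m + 1))} (h : IsMono g σ)
    {a b : Fin (m + 1)} (hab : a ≠ σ b) : ent g a b = 0 :=
  not_not.1 fun h0 => hab ((h a b).1 h0)

theorem IsMono.ne_zero {g : SLG m F} {σ : Equiv.Perm (Fin (m + 1))} (h : IsMono g σ)
    (a : Fin (m + 1)) : ent g a (σ.symm a) ≠ 0 := (h a _).2 (σ.apply_symm_apply a).symm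

theorem IsDiag.isMono {d : SLG m F} (hd : IsDiag d) : IsMono d 1 := fun a b => by
  rw [Equiv.Perm.one_apply]
  exact ⟨fun h => not_not.1 fun hab => h (hd a b hab), fun h => h ▸ hd.ne_zero a⟩

theorem IsMono.isDiag {g : SLG m F} (h : IsMono g 1) : IsDiag g := fun a b hab =>
  h.eq_zero (by simpa using hab)

theorem IsMono.diag_mul {g d : SLG m F} {σ : Equiv.Perm (Fin (m + 1))} (h : IsMono g σ)
    (hd : IsDiag d) : IsMono (d * g) σ := fun a b => by
  rw [hd.ent_mul, mul_ne_zero_iff, and_iff_right (hd.ne_zero a), h]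

theorem IsMono.ww_mul {g : SLG m F} {σ : Equiv.Perm (Fin (m + 1))} (h : IsMono g σ) (j : Fin m) :
    IsMono (ww j * g) (Equiv.swap j.castSucc j.succ * σ) := fun a b => by
  rw [ent_ww_mul, Equiv.Perm.mul_apply]
  rcases eq_or_ne a j.castSucc with rfl | h1
  · rw [if_pos rfl, h, eq_comm (a := j.castSucc)]
    rw [Equiv.swap_apply_eq_iff, Equiv.swap_apply_left, eq_comm]
  · rcases eq_or_ne a j.succ with rfl | h2
    · rw [if_neg h1, if_pos rfl, neg_ne_zero, h, eq_comm (a := j.succ)]
      rw [Equiv.swap_apply_eq_iff, Equiv.swap_apply_right, eq_comm]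
    · rw [if_neg h1, if_neg h2, h]
      constructor
      · intro e; rw [← e, Equiv.swap_apply_of_ne_of_ne h1 h2]
      · intro e
        rw [eq_comm, Equiv.swap_apply_eq_iff, Equiv.swap_apply_of_ne_of_ne h1 h2] at e
        exact e.symm

/-- The simple reflection lengthens `σ` on the left. -/
def Asc (j : Fin m) (σ : Equiv.Perm (Fin (m + 1))) : Prop := σ.symm j.castSucc < σ.symm j.succ

/-- A measure dropping along ascents. -/
def meas (σ : Equiv.Perm (Fin (m + 1))) : ℕ := ∑ a : Fin (m + 1), (a : ℕ) * (σ.symm a : ℕ)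

theorem meas_lt {j : Fin m} {σ : Equiv.Perm (Fin (m + 1))} (h : Asc j σ) :
    meas (Equiv.swap j.castSucc j.succ * σ) < meas σ := by
  have hs : ∀ a, (Equiv.swap j.castSucc j.succ * σ).symm a =
      σ.symm (Equiv.swap j.castSucc j.succ a) := fun a => by
    rw [Equiv.symm_apply_eq, Equiv.Perm.mul_apply, Equiv.apply_symm_apply, Equiv.swap_apply_self]
  unfold meas
  simp only [hs]
  rw [← Finset.sum_add_sum_compl {j.castSucc, j.succ},
    ← Finset.sum_add_sum_compl {j.castSucc, j.succ} (fun a => (a : ℕ) * (σ.symm a : ℕ)),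
    Finset.sum_pair (ne_of_castSucc j), Finset.sum_pair (ne_of_castSucc j),
    Equiv.swap_apply_left, Equiv.swap_apply_right,
    Finset.sum_congr rfl (fun a ha => ?_ : ∀ a ∈ ({j.castSucc, j.succ} : Finset _)ᶜ,
      (a : ℕ) * (σ.symm (Equiv.swap j.castSucc j.succ a) : ℕ) = (a : ℕ) * (σ.symm a : ℕ))]
  · have hlt : (σ.symm j.castSucc : ℕ) < (σ.symm j.succ : ℕ) := h
    simp only [Fin.val_castSucc, Fin.val_succ]
    nlinarith
  · simp only [Finset.mem_compl, Finset.mem_insert, Finset.mem_singleton, not_or] at ha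
    rw [Equiv.swap_apply_of_ne_of_ne ha.1 ha.2]

theorem meas_le (σ : Equiv.Perm (Fin (m + 1))) : meas σ ≤ (m + 1) * (m * m) := by
  refine (Finset.sum_le_card_nsmul _ _ (m * m) fun a _ => ?_).trans (by simp)
  exact Nat.mul_le_mul (Nat.le_of_lt_succ a.isLt) (Nat.le_of_lt_succ (σ.symm a).isLt)

theorem exists_descent {σ : Equiv.Perm (Fin (m + 1))} (h : σ ≠ 1) :
    ∃ j : Fin m, ¬ Asc j σ := by
  by_contra! hc
  have hm : StrictMono ⇑σ.symm := Fin.strictMono_iff_lt_succ.2 fun j => hc j
  have h1 := (hm.range_inj strictMono_id).1 (by simp [σ.symm.surjective.range_eq])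
  exact h (Equiv.ext fun a => by
    rw [Equiv.Perm.one_apply]
    conv_lhs => rw [show a = σ.symm a from (congrFun h1 a).symm]
    exact σ.apply_symm_apply a)

theorem asc_swap {j : Fin m} {σ : Equiv.Perm (Fin (m + 1))} (h : ¬ Asc j σ) :
    Asc j (Equiv.swap j.castSucc j.succ * σ) := by
  have hs : ∀ a, (Equiv.swap j.castSucc j.succ * σ).symm a =
      σ.symm (Equiv.swap j.castSucc j.succ a) := fun a => by
    rw [Equiv.symm_apply_eq, Equiv.Perm.mul_apply, Equiv.apply_symm_apply, Equiv.swap_apply_self]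
  unfold Asc at h ⊢
  rw [hs, hs, Equiv.swap_apply_left, Equiv.swap_apply_right]
  exact lt_of_le_of_ne (not_lt.1 h) fun e => ne_of_succ j (σ.symm.injective e)

theorem ww_ww_cancel (j : Fin m) (g : SLG m F) : ww j * (ww j * (hh j (-1) * g)) = g := by
  rw [← mul_assoc, ww_mul_ww, ← mul_assoc, hh_neg_one_sq, one_mul]

theorem mono_induction {P : SLG m F → Equiv.Perm (Fin (m + 1)) → Prop}
    (hdiag : ∀ d : SLG m F, IsDiag d → P d 1)
    (hstep : ∀ (g : SLG m F) (σ : Equiv.Perm (Fin (m + 1))) (j : Fin m), IsMono g σ → Asc j σ →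
      P g σ → P (ww j * g) (Equiv.swap j.castSucc j.succ * σ))
    {g : SLG m F} {σ : Equiv.Perm (Fin (m + 1))} (h : IsMono g σ) : P g σ := by
  induction hN : (m + 1) * (m * m) - meas σ using Nat.strong_induction_on generalizing g σ with
  | _ N ih =>
    by_cases h1 : σ = 1
    · subst h1; exact hdiag g h.isDiag
    obtain ⟨j, hj⟩ := exists_descent h1
    set g' := ww j * (hh j (-1) * g) with hg'
    set σ' := Equiv.swap j.castSucc j.succ * σ with hσ'
    have hm' : IsMono g' σ' := (h.diag_mul (isDiag_hh j (-1))).ww_mul j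
    have hσ : Equiv.swap j.castSucc j.succ * σ' = σ := by
      rw [hσ', ← mul_assoc, Equiv.swap_mul_self, one_mul]
    have hlt : meas σ < meas σ' := by
      have := meas_lt (asc_swap hj)
      rwa [hσ] at this
    have hP := hstep g' σ' j hm' (asc_swap hj)
      (ih _ (by have := meas_le σ'; omega) hm' rfl)
    rw [hσ, hg', ww_ww_cancel] at hP
    exact hP

theorem diag_conj_mem {d u : SLG m F} (hd : IsDiag d) (hu : u ∈ UU m F) :
    d⁻¹ * u * d ∈ UU m F := by
  have he : ∀ a b, ent d a a * ent (d⁻¹ * u * d) a b = ent u a b * ent d b b := fun a b => by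
    rw [← hd.ent_mul, ← hd.ent_mul_right, show d * (d⁻¹ * u * d) = u * d by group]
  rw [mem_UU] at hu ⊢
  refine ⟨fun a b h => ?_, fun a => ?_⟩
  · have := he a b
    rw [hu.1 a b h, zero_mul, mul_eq_zero] at this
    exact this.resolve_left (hd.ne_zero a)
  · have := he a a
    rw [hu.2 a, one_mul] at this
    exact (mul_eq_left₀ (hd.ne_zero a)).1 this

/-- The upper unitriangular elements with vanishing `(j, j+1)` entry are normalised by `ww j`. -/
theorem ww_conj_mem (j : Fin m) {u : SLG m F} (hu : u ∈ UU m F)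
    (h0 : ent u j.castSucc j.succ = 0) :
    (∃ v ∈ UU m F, ww j * u = v * ww j) ∧ ∃ v ∈ UU m F, u * ww j = ww j * v := by
  have hP : (j.castSucc : ℕ) = j := rfl
  have hQ : (j.succ : ℕ) = j + 1 := Fin.val_succ j
  have hu' := mem_UU.1 hu
  constructor
  · refine ⟨ww j * u * (ww j)⁻¹, mem_UU.2 ⟨fun a b hab => ?_, fun a => ?_⟩, by group⟩
    all_goals set v := ww j * u * (ww j)⁻¹ with hv
    all_goals have e : ∀ a b, ent (v * ww j) a b = ent (ww j * u) a b := fun a b => by rw [hv, show ww j * u * (ww j)⁻¹ * ww j = ww j * u by group]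
    · have e1 := e a j.castSucc
      have e2 := e a j.succ
      have e3 := e a b
      simp only [ent_mul_ww, ent_ww_mul, ne_of_succ, if_true, if_false] at e1 e2 e3
      rw [Fin.lt_def] at hab
      rcases eq_or_ne b j.castSucc with rfl | hb1
      · rw [e2]
        split_ifs with ha1 ha2
        · subst ha1; omega
        · rw [h0, neg_zero]
        · have := Fin.val_ne_of_ne ha2
          exact hu'.1 _ _ (by rw [Fin.lt_def]; omega)
      · rcases eq_or_ne b j.succ with rfl | hb2
        · rw [← neg_eq_zero, e1]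
          split_ifs with ha1 ha2
          · subst ha1; omega
          · subst ha2; omega
          · exact hu'.1 _ _ (by rw [Fin.lt_def]; omega)
        · simp only [hb1, hb2, if_false] at e3
          rw [e3]
          have := Fin.val_ne_of_ne hb1
          have := Fin.val_ne_of_ne hb2
          split_ifs with ha1 ha2
          · subst ha1; exact hu'.1 _ _ (by rw [Fin.lt_def]; omega)
          · subst ha2; rw [hu'.1 _ _ (by rw [Fin.lt_def]; omega), neg_zero]
          · exact hu'.1 _ _ (by rw [Fin.lt_def]; omega)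
    · rcases eq_or_ne a j.castSucc with rfl | ha1
      · have e2 := e j.castSucc j.succ
        simp only [ent_mul_ww, ent_ww_mul, ne_of_succ, if_true, if_false] at e2
        rw [e2, hu'.2]
      · rcases eq_or_ne a j.succ with rfl | ha2
        · have e1 := e j.succ j.castSucc
          simp only [ent_mul_ww, ent_ww_mul, ne_of_succ, if_true, if_false] at e1
          rw [neg_inj.1 e1, hu'.2]
        · have e3 := e a a
          simp only [ent_mul_ww, ent_ww_mul, ha1, ha2, if_false] at e3
          rw [e3, hu'.2]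
  · refine ⟨(ww j)⁻¹ * u * ww j, mem_UU.2 ⟨fun a b hab => ?_, fun a => ?_⟩, by group⟩
    all_goals set v := (ww j)⁻¹ * u * ww j with hv
    all_goals have e : ∀ a b, ent (ww j * v) a b = ent (u * ww j) a b := fun a b => by rw [hv, show ww j * ((ww j)⁻¹ * u * ww j) = u * ww j by group]
    · have e1 := e j.castSucc b
      have e2 := e j.succ b
      have e3 := e a b
      simp only [ent_mul_ww, ent_ww_mul, ne_of_succ, if_true, if_false] at e1 e2 e3
      rw [Fin.lt_def] at hab
      rcases eq_or_ne a j.succ with rfl | ha2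
      · rw [e1]
        split_ifs with hb1 hb2
        · rw [h0, neg_zero]
        · subst hb2; omega
        · have := Fin.val_ne_of_ne hb1
          exact hu'.1 _ _ (by rw [Fin.lt_def]; omega)
      · rcases eq_or_ne a j.castSucc with rfl | ha1
        · rw [← neg_eq_zero, e2]
          split_ifs with hb1 hb2
          · subst hb1; omega
          · subst hb2; omega
          · exact hu'.1 _ _ (by rw [Fin.lt_def]; omega)
        · simp only [ha1, ha2, if_false] at e3
          rw [e3]
          have := Fin.val_ne_of_ne ha1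
          have := Fin.val_ne_of_ne ha2
          split_ifs with hb1 hb2
          · subst hb1; rw [hu'.1 _ _ (by rw [Fin.lt_def]; omega), neg_zero]
          · subst hb2; exact hu'.1 _ _ (by rw [Fin.lt_def]; omega)
          · exact hu'.1 _ _ (by rw [Fin.lt_def]; omega)
    · rcases eq_or_ne a j.succ with rfl | ha2
      · have e1 := e j.castSucc j.succ
        simp only [ent_mul_ww, ent_ww_mul, ne_of_succ, if_true, if_false] at e1
        rw [e1, hu'.2]
      · rcases eq_or_ne a j.castSucc with rfl | ha1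
        · have e2 := e j.succ j.castSucc
          simp only [ent_mul_ww, ent_ww_mul, ne_of_succ, if_true, if_false] at e2
          rw [neg_inj.1 e2, hu'.2]
        · have e3 := e a a
          simp only [ent_mul_ww, ent_ww_mul, ha1, ha2, if_false] at e3
          rw [e3, hu'.2]

theorem exists_split_right (j : Fin m) {u : SLG m F} (hu : u ∈ UU m F) :
    ∃ s : F, ∃ u' ∈ UU m F, ent u' j.castSucc j.succ = 0 ∧ u = u' * xx j s := by
  refine ⟨ent u j.castSucc j.succ, u * xx j (-ent u j.castSucc j.succ),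
    mul_mem hu (xx_mem _ _), ?_, by rw [mul_assoc, ← xx_add, neg_add_cancel, xx_zero, mul_one]⟩
  rw [ent_mul_xx, if_pos rfl, (mem_UU.1 hu).2]
  ring

theorem exists_split_left (j : Fin m) {u : SLG m F} (hu : u ∈ UU m F) :
    ∃ s : F, ∃ u' ∈ UU m F, ent u' j.castSucc j.succ = 0 ∧ u = xx j s * u' := by
  refine ⟨ent u j.castSucc j.succ, xx j (-ent u j.castSucc j.succ) * u,
    mul_mem (xx_mem _ _) hu, ?_, by rw [← mul_assoc, ← xx_add, add_neg_cancel, xx_zero, one_mul]⟩
  rw [ent_xx_mul, if_pos rfl, (mem_UU.1 hu).2]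
  ring

theorem xx_mul_mono (j : Fin m) (s : F) {g : SLG m F} {σ : Equiv.Perm (Fin (m + 1))}
    (hg : IsMono g σ) (hasc : Asc j σ) : ∃ v ∈ UU m F, xx j s * g = g * v := by
  refine ⟨Matrix.SpecialLinearGroup.transvection hasc.ne
    (s * ent g j.succ (σ.symm j.succ) / ent g j.castSucc (σ.symm j.castSucc)),
    mem_UU.2 ⟨fun a b h => ?_, fun a => ?_⟩, slg_ext fun a b => ?_⟩
  · rw [← mul_one (Matrix.SpecialLinearGroup.transvection hasc.ne _ : SLG m F), ent_tv_mul,
      ent_one, if_neg h.ne', zero_add]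
    split_ifs with h1
    · subst h1
      rw [ent_one, if_neg (h.trans hasc).ne', mul_zero]
    · rfl
  · rw [← mul_one (Matrix.SpecialLinearGroup.transvection hasc.ne _ : SLG m F), ent_tv_mul,
      ent_one, if_pos rfl]
    split_ifs with h1
    · subst h1
      rw [ent_one, if_neg hasc.ne', mul_zero, add_zero]
    · rw [add_zero]
  · rw [ent_mul_tv, ent_xx_mul]
    by_cases h1 : a = j.castSucc
    · subst h1
      rw [if_pos rfl]
      by_cases h2 : b = σ.symm j.succ
      · subst h2
        rw [if_pos rfl]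
        have := hg.ne_zero j.castSucc
        field_simp
      · rw [if_neg h2, hg.eq_zero (a := j.succ) (b := b) (fun e => h2 (by rw [e, σ.symm_apply_apply]))]
        simp
    · rw [if_neg h1]
      split_ifs with h2
      · rw [hg.eq_zero (a := a) (b := σ.symm j.castSucc)
          (by rw [σ.apply_symm_apply]; exact h1)]
        simp
      · simp

section Algebra

variable (k : Type*) [Field k] [Fintype F]

/-- The operator of a simple reflection. -/
noncomputable def tau (j : Fin m) : k[SLG m F] := ∑ t : F, dl k (xx j t * ww j)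

/-- The sum over a simple coroot torus. -/
noncomputable def sumH (j : Fin m) : k[SLG m F] := ∑ u : Fˣ, dl k (hh j u)

variable {k}

/-- Ascending the Weyl group. -/
theorem tau_mul_tel {a : k[SLG m F]} (ha : IsFix (UU m F) a) {g : SLG m F}
    {σ : Equiv.Perm (Fin (m + 1))} (hg : IsMono g σ) {j : Fin m} (hasc : Asc j σ) :
    tau k j * (tel k (UU m F) g * a) = tel k (UU m F) (ww j * g) * a := by
  rw [tau, Finset.sum_mul, tel_mul, tel_mul]
  simp only [Finset.mul_sum, dl_mul_left]
  rw [← Finset.sum_product']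
  refine Finset.sum_bij (fun p _ => ((xx j p.1 * ww j * p.2.out : SLG m F) : SLG m F ⧸ UU m F))
    ?_ ?_ ?_ ?_
  · intro p hp
    obtain ⟨u, hu, v, hv, h⟩ := orb_out (Finset.mem_product.1 hp).2
    obtain ⟨s, u', hu', h0, rfl⟩ := exists_split_right j hu
    obtain ⟨u'', hu'', hw⟩ := (ww_conj_mem j hu' h0).1
    obtain ⟨x', hx', hx⟩ := xx_mul_mono j s hg hasc
    refine mem_orb.2 ⟨xx j p.1 * u'', mul_mem (xx_mem _ _) hu'', ?_⟩
    rw [h, show xx j p.1 * ww j * (u' * xx j s * g * v) =
      xx j p.1 * (ww j * u') * (xx j s * g) * v by group, hw, hx,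
      show xx j p.1 * (u'' * ww j) * (g * x') * v = xx j p.1 * u'' * (ww j * g) * (x' * v) by group,
      QuotientGroup.mk_mul_of_mem _ (mul_mem hx' hv)]
  · intro p hp q hq h
    obtain ⟨u, hu, v, hv, hp'⟩ := orb_out (Finset.mem_product.1 hp).2
    obtain ⟨u', hu', v', hv', hq'⟩ := orb_out (Finset.mem_product.1 hq).2
    rw [hp', hq', show xx j p.1 * ww j * (u * g * v) = xx j p.1 * ww j * u * g * v by group,
      show xx j q.1 * ww j * (u' * g * v') = xx j q.1 * ww j * u' * g * v' by group,
      QuotientGroup.mk_mul_of_mem _ hv, QuotientGroup.mk_mul_of_mem _ hv', QuotientGroup.eq] at h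
    set w := (xx j p.1 * ww j * u * g)⁻¹ * (xx j q.1 * ww j * u' * g) with hw
    have e : u⁻¹ * yy j (-(q.1 - p.1)) * u' * g = g * w := by
      rw [hw, sub_eq_neg_add, xx_add_neg_aux j p.1 q.1]
      group
    have he := congrArg (fun z : SLG m F => ent z j.succ (σ.symm j.castSucc)) e
    have hl : ent (u⁻¹ * yy j (-(q.1 - p.1)) * u') j.succ j.castSucc = -(q.1 - p.1) := by
      rw [mul_assoc, ent_mul, Finset.sum_eq_single j.succ]
      · rw [(mem_UU.1 (inv_mem hu)).2, one_mul, ent_yy_mul, if_pos rfl,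
          (mem_UU.1 hu').1 _ _ (Fin.castSucc_lt_succ (i := j)), (mem_UU.1 hu').2]
        ring
      · intro c _ hc
        rcases lt_or_gt_of_ne hc with hc | hc
        · rw [(mem_UU.1 (inv_mem hu)).1 _ _ hc, zero_mul]
        · rw [ent_yy_mul, if_neg hc.ne',
            (mem_UU.1 hu').1 _ _ ((Fin.castSucc_lt_succ (i := j)).trans hc), mul_zero]
      · simp
    have hr : q.1 - p.1 = 0 := by
      skip
      rw [ent_mul, Finset.sum_eq_single j.castSucc, hl, ent_mul,
        Finset.sum_eq_single (σ.symm j.succ)] at he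
      · rw [(mem_UU.1 h).1 _ _ hasc, mul_zero, mul_eq_zero, neg_eq_zero] at he
        exact he.resolve_right (hg.ne_zero _)
      · intro c _ hc
        rw [hg.eq_zero (fun e' => hc (by rw [e', σ.symm_apply_apply])), zero_mul]
      · simp
      · intro c _ hc
        rw [hg.eq_zero (a := c) (b := σ.symm j.castSucc) (by rw [σ.apply_symm_apply]; exact hc),
          mul_zero]
      · simp
    have hpq : p.1 = q.1 := (sub_eq_zero.1 hr).symm
    refine Prod.ext hpq ?_
    rw [← QuotientGroup.out_eq' p.2, ← QuotientGroup.out_eq' q.2, hp', hq',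
      QuotientGroup.mk_mul_of_mem _ hv, QuotientGroup.mk_mul_of_mem _ hv', QuotientGroup.eq]
    rw [show (u * g)⁻¹ * (u' * g) = w by rw [hw, hpq]; group]
    exact h
  · intro c hc
    obtain ⟨u, hu, rfl⟩ := mem_orb.1 hc
    obtain ⟨s, u', hu', h0, rfl⟩ := exists_split_left j hu
    obtain ⟨u'', hu'', hw⟩ := (ww_conj_mem j hu' h0).2
    refine ⟨(s, ((u'' * g : SLG m F) : SLG m F ⧸ UU m F)),
      Finset.mem_product.2 ⟨Finset.mem_univ _, mem_orb.2 ⟨u'', hu'', rfl⟩⟩, ?_⟩
    obtain ⟨v, hv, hout⟩ := exists_out (UU m F) _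
      (rfl : ((u'' * g : SLG m F) : SLG m F ⧸ UU m F) = _)
    simp only
    rw [hout, show xx j s * u' * (ww j * g) = xx j s * (u' * ww j) * g by group, hw,
      show xx j s * ww j * (u'' * g * v) = xx j s * (ww j * u'') * g * v by group,
      QuotientGroup.mk_mul_of_mem _ hv]
  · intro p _
    rw [ha.dl_out]
where
  xx_add_neg_aux (j : Fin m) (p q : F) : yy j (-(-p + q)) = (ww j)⁻¹ * (xx j p)⁻¹ * xx j q * ww j := by
    have h1 : (xx j p)⁻¹ = (xx j (-p) : SLG m F) :=
      inv_eq_of_mul_eq_one_right (by rw [← xx_add, add_neg_cancel, xx_zero])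
    rw [h1, mul_assoc _ (xx j (-p)), ← xx_add, mul_assoc, xx_mul_ww, inv_mul_cancel_left]

end Algebra

end CfsgLib.SlBlocks
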