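import Cfsg.Agent.SlBlocks.Hecke

/-!
Eigen-profiles of fixed vectors: every nonzero fixed vector gives one killed by some simple
operator, or one of Steinberg type.
-/

set_option autoImplicit false

open scoped Classical MonoidAlgebra

namespace CfsgLib.SlBlocks

open CfsgLib.Classical.Linear

variable {F : Type*} [Field F] {m : ℕ} {k : Type*} [Field k]

local notation "U₀" => UU m F

theorem IsFix.dl_diag {a : k[SLG m F]} (ha : IsFix U₀ a) {d : SLG m F} (hd : IsDiag d) :
    IsFix U₀ (dl k d * a) := by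
  intro u hu
  rw [dl_mul_left, show u * d = d * (d⁻¹ * u * d) by group, ← dl_mul, mul_assoc,
    ha _ (diag_conj_mem hd hu)]

theorem tel_diag [Finite F] {a : k[SLG m F]} (ha : IsFix U₀ a) {d : SLG m F} (hd : IsDiag d) :
    tel k U₀ d * a = dl k d * a := by
  have ho : orb U₀ d = {((d : SLG m F) : SLG m F ⧸ U₀)} := by
    ext c
    rw [Finset.mem_singleton, mem_orb]
    constructor
    · rintro ⟨u, hu, rfl⟩
      rw [show u * d = d * (d⁻¹ * u * d) by group,
        QuotientGroup.mk_mul_of_mem _ (diag_conj_mem hd hu)]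
    · rintro rfl
      exact ⟨1, one_mem _, by rw [one_mul]⟩
  rw [tel, ho, Finset.sum_singleton, ha.dl_out]

variable [Fintype F]

theorem isFix_sumH {a : k[SLG m F]} (ha : IsFix U₀ a) (j : Fin m) : IsFix U₀ (sumH k j * a) := by
  intro u hu
  rw [sumH, Finset.sum_mul, Finset.mul_sum]
  exact Finset.sum_congr rfl fun v _ => ha.dl_diag (isDiag_hh j v) u hu

theorem dl_hh_mul_sumH (j : Fin m) (r : Fˣ) :
    dl k (hh j r : SLG m F) * sumH k j = sumH k j := by
  rw [sumH, Finset.mul_sum]
  exact Fintype.sum_equiv (Equiv.mulLeft r) _ _ fun u => by rw [dl_mul, hh_mul]; rfl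

theorem dl_diag_sumH {d : SLG m F} (hd : IsDiag d) (j : Fin m) :
    sumH k j * dl k d = dl k d * sumH k j := by
  rw [sumH, Finset.sum_mul, Finset.mul_sum]
  exact Finset.sum_congr rfl fun u _ => by rw [dl_mul, dl_mul, (isDiag_hh j u).commute hd]

/-- The coroot factor produced by conjugation. -/
noncomputable def ratio {d : SLG m F} (hd : IsDiag d) (j : Fin m) : Fˣ :=
  Units.mk0 _ (hd.ne_zero j.succ) / Units.mk0 _ (hd.ne_zero j.castSucc)

theorem tau_mul_dl {d : SLG m F} (hd : IsDiag d) (j : Fin m) :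
    tau k j * dl k d = dl k (d * hh j (ratio hd j)) * tau k j := by
  set d' := d * hh j (ratio hd j) with hd'
  have hdd : IsDiag d' := hd.mul (isDiag_hh j _)
  have hc : ent d' j.succ j.succ / ent d' j.castSucc j.castSucc ≠ 0 :=
    div_ne_zero (hdd.ne_zero _) (hdd.ne_zero _)
  rw [tau, Finset.sum_mul, Finset.mul_sum]
  refine Fintype.sum_equiv (Equiv.mulRight₀ _ hc) _ _ fun t => ?_
  rw [dl_mul, dl_mul, mul_assoc (xx j t), hd.ww_mul, ← ratio.eq_def, ← hd', ← mul_assoc (xx j t),
    hdd.xx_mul, mul_assoc, mul_div_assoc]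
  · rfl
  · exact hd

theorem tau_mul_sumH (j : Fin m) : tau k j * (sumH k j : k[SLG m F]) = sumH k j * tau k j := by
  rw [sumH, Finset.mul_sum, Finset.sum_mul]
  refine Fintype.sum_equiv (Equiv.inv Fˣ) _ _ fun u => ?_
  rw [tau_mul_dl (isDiag_hh j u) j, hh_mul]
  congr 3
  ext
  simp [ratio, ent_hh, ne_of_succ]

variable {p : ℕ} [Fact p.Prime] [CharP F p] [CharP k p]

omit [Fact p.Prime] in
include p in
theorem natCast_card_eq_zero : (Fintype.card F : k) = 0 :=
  (CharP.cast_eq_zero_iff k p _).2 ((CharP.cast_eq_zero_iff F p _).1 (by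
    rw [← Nat.card_eq_fintype_card]
    simp [Nat.card_eq_fintype_card]))

omit [Fact p.Prime] in
include p in
theorem sumH_mul_self (j : Fin m) :
    (sumH k j : k[SLG m F]) * sumH k j = - sumH k j := by
  conv_lhs => rw [sumH, Finset.sum_mul]
  rw [← sumH]
  simp only [dl_hh_mul_sumH, Finset.sum_const, Finset.card_univ]
  rw [← Nat.cast_smul_eq_nsmul k, Fintype.card_units, Nat.cast_sub Fintype.card_pos,
    natCast_card_eq_zero (p := p), Nat.cast_one, zero_sub, neg_smul, one_smul]

omit [Fact p.Prime] in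
include p in
theorem tau_tau {a : k[SLG m F]} (ha : IsFix U₀ a) (j : Fin m) :
    tau k j * (tau k j * a) = tau k j * (sumH k j * a) := by
  have hterm : ∀ t : F, ∀ u : Fˣ, dl k (xx j t * ww j) * (dl k (xx j (u : F) * ww j) * a) =
      dl k (xx j (t + -((u : F)⁻¹)) * ww j * hh j (-u)) * a := by
    intro t u
    rw [dl_mul_left, show xx j t * ww j * (xx j (u : F) * ww j) =
      xx j t * (ww j * xx j (u : F) * ww j) by group, ww_xx_ww,
      show xx j t * (xx j (-((u : F)⁻¹)) * ww j * hh j (-u) * xx j (-((u : F)⁻¹))) =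
        (xx j t * xx j (-((u : F)⁻¹)) * ww j * hh j (-u)) * xx j (-((u : F)⁻¹)) by group,
      ha.dl_mul_mem _ (xx_mem _ _), xx_add]
  have hzero : ∀ t : F, dl k (xx j t * ww j) * (dl k (xx j (0 : F) * ww j) * a) =
      dl k (hh j (-1)) * a := by
    intro t
    rw [dl_mul_left, xx_zero, one_mul, mul_assoc, ww_mul_ww, (isDiag_hh j (-1)).xx_mul,
      ha.dl_mul_mem _ (xx_mem _ _)]
  have hL : tau k j * (tau k j * a) =
      ∑ s : F, ∑ t : F, dl k (xx j t * ww j) * (dl k (xx j s * ww j) * a) := by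
    rw [tau]
    simp only [Finset.sum_mul, Finset.mul_sum]
  have hR : tau k j * (sumH k j * a) =
      ∑ u : Fˣ, ∑ t : F, dl k (xx j t * ww j * hh j u) * a := by
    simp only [tau, sumH, Finset.sum_mul, Finset.mul_sum, dl_mul_left]

  rw [hL, hR, Fintype.sum_eq_add_sum_subtype_ne _ (0 : F)]
  simp only [hzero, Finset.sum_const, Finset.card_univ]
  rw [← Nat.cast_smul_eq_nsmul k, natCast_card_eq_zero (p := p), zero_smul, zero_add]
  let e : {s : F // s ≠ 0} ≃ Fˣ :=
    (unitsEquivNeZero (G₀ := F)).symm.trans (Equiv.neg Fˣ)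
  refine Fintype.sum_equiv e _ _ fun s => ?_
  refine Fintype.sum_equiv (Equiv.addRight (-((s.1)⁻¹))) _ _ fun t => ?_
  have h := hterm t (Units.mk0 s.1 s.2)
  rw [Units.val_mk0] at h
  rw [h]
  congr 2

/-- `τ_l z` is `0` for `l ∈ A` and `S_l z` otherwise. -/
def Prof (A : Set (Fin m)) (z : k[SLG m F]) : Prop :=
  ∀ l, tau k l * z = if l ∈ A then 0 else sumH k l * z

theorem prof_zero (A : Set (Fin m)) : Prof A (0 : k[SLG m F]) := fun l => by simp

theorem Prof.add {A : Set (Fin m)} {z z' : k[SLG m F]} (h : Prof A z) (h' : Prof A z') :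
    Prof A (z + z') := fun l => by
  rw [mul_add, h l, h' l]
  split_ifs
  · simp
  · rw [mul_add]

theorem Prof.dl {A : Set (Fin m)} {z : k[SLG m F]} (h : Prof A z) {d : SLG m F} (hd : IsDiag d) :
    Prof A (dl k d * z) := fun l => by
  rw [← mul_assoc, tau_mul_dl hd, mul_assoc, h l]
  split_ifs
  · simp
  · rw [← dl_mul, mul_assoc, ← mul_assoc (SlBlocks.dl k (hh l _)), dl_hh_mul_sumH,
      ← mul_assoc, ← mul_assoc, dl_diag_sumH hd]

theorem Prof.sumH {A : Set (Fin m)} {z : k[SLG m F]} (h : Prof A z) (j : Fin m) :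
    Prof A (sumH k j * z) := by
  rw [SlBlocks.sumH, Finset.sum_mul]
  exact Finset.sum_induction _ (Prof A) (fun _ _ => Prof.add) (prof_zero A)
    fun u _ => h.dl (isDiag_hh j u)

/-- Moving an index across the cut after `i`. -/
def Moves (i : Fin m) (σ : Equiv.Perm (Fin (m + 1))) : Prop :=
  ∃ b, b ≤ i.castSucc ∧ i.castSucc < σ b

theorem tel_eq_zero_of_prof {A : Set (Fin m)} {z : k[SLG m F]} (hz : IsFix U₀ z) (h : Prof A z)
    {g : SLG m F} {σ : Equiv.Perm (Fin (m + 1))} (hg : IsMono g σ) {i : Fin m} (hi : i ∈ A)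
    (hmov : Moves i σ) : tel k U₀ g * z = 0 := by
  suffices H : Prof A (tel k U₀ g * z) ∧ (Moves i σ → tel k U₀ g * z = 0) from H.2 hmov
  refine mono_induction (P := fun g σ => Prof A (tel k U₀ g * z) ∧
    (Moves i σ → tel k U₀ g * z = 0)) (fun d hd => ?_) (fun g σ j hg hasc ih => ?_) hg
  · rw [tel_diag hz hd]
    exact ⟨h.dl hd, fun ⟨b, hb, hb'⟩ => absurd (hb'.trans_le hb) (by simp)⟩
  · rw [← tau_mul_tel hz hg hasc, ih.1 j]
    split_ifs with hj
    · exact ⟨prof_zero A, fun _ => rfl⟩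
    · refine ⟨ih.1.sumH j, fun ⟨b, hb, hb'⟩ => ?_⟩
      rw [ih.2 ⟨b, hb, ?_⟩, mul_zero]
      have hne : j ≠ i := fun e => hj (e ▸ hi)
      by_contra hle
      rw [not_lt] at hle
      rw [Equiv.Perm.mul_apply] at hb'
      rw [Fin.lt_def] at hb'
      rw [Fin.le_def] at hle
      rcases eq_or_ne (σ b) j.castSucc with e | e
      · rw [e, Equiv.swap_apply_left] at hb'
        rw [e] at hle
        have : (j : ℕ) ≠ i := fun e' => hne (Fin.ext e')
        simp only [Fin.val_castSucc, Fin.val_succ] at hb' hle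
        omega
      · rcases eq_or_ne (σ b) j.succ with e' | e'
        · rw [e', Equiv.swap_apply_right] at hb'
          rw [e'] at hle
          simp only [Fin.val_castSucc, Fin.val_succ] at hb' hle
          omega
        · rw [Equiv.swap_apply_of_ne_of_ne e e'] at hb'
          omega

/-- A vector of Steinberg type. -/
structure IsStVec (y : k[SLG m F]) : Prop where
  ne_zero : y ≠ 0
  fix : IsFix U₀ y
  diag : ∀ d : SLG m F, IsDiag d → dl k d * y = y
  tau : ∀ l : Fin m, SlBlocks.tau k l * y = - y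

omit [Fact p.Prime] in
theorem IsStVec.tel {y : k[SLG m F]} (h : IsStVec y) {g : SLG m F}
    {σ : Equiv.Perm (Fin (m + 1))} (hg : IsMono g σ) :
    SlBlocks.tel k U₀ g * y = ((Equiv.Perm.sign σ : ℤ) : k) • y := by
  refine mono_induction (P := fun g σ => SlBlocks.tel k U₀ g * y =
    ((Equiv.Perm.sign σ : ℤ) : k) • y) (fun d hd => ?_) (fun g σ j hg hasc ih => ?_) hg
  · rw [tel_diag h.fix hd, h.diag d hd]; simp
  · rw [← tau_mul_tel h.fix hg hasc, ih, mul_smul_comm, h.tau, map_mul,
      Equiv.Perm.sign_swap (ne_of_castSucc j)]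
    simp

theorem diag_fix_of_hh {y : k[SLG m F]} (h : ∀ j t, dl k (hh j t : SLG m F) * y = y)
    {d : SLG m F} (hd : IsDiag d) : dl k d * y = y := by
  suffices H : ∀ r ≤ m, ∀ d : SLG m F, IsDiag d →
      (∀ a : Fin (m + 1), (a : ℕ) < m - r → ent d a a = 1) → dl k d * y = y from
    H m le_rfl d hd fun a ha => absurd ha (by simp)
  intro r hr
  induction r with
  | zero =>
    intro d hd h1
    have hlast : ent d (Fin.last m) (Fin.last m) = 1 := by
      have hdet := d.2
      rw [Matrix.det_of_isUpperTriangular (M := (d : Matrix _ _ F))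
        (fun a b hab => hd a b hab.ne'), Fin.prod_univ_castSucc,
        Finset.prod_eq_one (fun a _ => h1 a.castSucc (by simp)), one_mul] at hdet
      exact hdet
    have : d = 1 := slg_ext fun a b => by
      rw [ent_one]
      rcases eq_or_ne a b with rfl | hab
      · rw [if_pos rfl]
        rcases Fin.eq_castSucc_or_eq_last a with ⟨a', rfl⟩ | rfl
        · exact h1 _ (by simp)
        · exact hlast
      · rw [if_neg hab, hd a b hab]
    rw [this, dl_one, one_mul]
  | succ r ih =>
    intro d hd h1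
    let j : Fin m := ⟨m - (r + 1), by omega⟩
    set c := Units.mk0 _ (hd.ne_zero j.castSucc) with hc
    have hd' : IsDiag (hh j c⁻¹ * d) := (isDiag_hh j _).mul hd
    have e : d = hh j c * (hh j c⁻¹ * d) := by
      rw [← mul_assoc, hh_mul, mul_inv_cancel, hh_one, one_mul]
    rw [e, ← dl_mul, mul_assoc, ih (by omega) _ hd', h]
    intro a ha
    rw [(isDiag_hh j _).ent_mul, ent_hh]
    have hjv : (j : ℕ) = m - (r + 1) := rfl
    rcases eq_or_ne a j.castSucc with rfl | h2
    · rw [if_pos rfl, hc, Units.val_inv_eq_inv_val, Units.val_mk0, inv_mul_cancel₀ (hd.ne_zero _)]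
    · have hne := Fin.val_ne_of_ne h2
      rw [Fin.val_castSucc] at hne
      rw [if_neg h2, if_neg (fun e' => by rw [e', Fin.val_succ] at ha; omega), one_mul,
        h1 a (by omega)]

omit [Fact p.Prime] in
include p in
/-- Every nonzero fixed vector yields one killed by a simple operator or one of Steinberg type. -/
theorem exists_prof_or_st {a : k[SLG m F]} (ha0 : a ≠ 0) (ha : IsFix U₀ a) :
    (∃ (A : Set (Fin m)) (z : k[SLG m F]), A.Nonempty ∧ z ≠ 0 ∧ IsFix U₀ z ∧ Prof A z ∧
      ∀ e : k[SLG m F], (∀ g, dl k g * e = e * dl k g) → e * a = a → e * z = z) ∨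
    ∃ y : k[SLG m F], IsStVec y ∧
      ∀ e : k[SLG m F], (∀ g, dl k g * e = e * dl k g) → e * a = a → e * y = y := by
  have hex : ∃ N : ℕ, ∃ g σ, IsMono (g : SLG m F) σ ∧ meas σ = N ∧ tel k U₀ g * a ≠ 0 :=
    ⟨_, 1, 1, isDiag_one.isMono, rfl, by rw [tel_diag ha isDiag_one, dl_one, one_mul]; exact ha0⟩
  obtain ⟨g, σ, hg, hmeas, hy0⟩ := Nat.find_spec hex
  set y := tel k U₀ g * a with hy
  have hfix : IsFix U₀ y := ha.tel g
  have hcom : ∀ (e b : k[SLG m F]), (∀ g, dl k g * e = e * dl k g) → ∀ h,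
      e * (tel k U₀ h * b) = tel k U₀ h * (e * b) := by
    intro e b he h
    simp only [tel, Finset.sum_mul, Finset.mul_sum, ← mul_assoc, he]
  have hey : ∀ e : k[SLG m F], (∀ g, dl k g * e = e * dl k g) → e * a = a → e * y = y :=
    fun e he hea => by rw [hy, hcom e a he g, hea]
  have hprof : Prof {j | Asc j σ} y := by
    intro j
    by_cases hj : Asc j σ
    · rw [if_pos (by exact hj), hy, tau_mul_tel ha hg hj]
      by_contra hne
      exact Nat.find_min hex (hmeas ▸ meas_lt hj) ⟨_, _, hg.ww_mul j, rfl, hne⟩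
    · rw [if_neg (by exact hj)]
      set g' := ww j * (hh j (-1) * g) with hg'
      have hm' : IsMono g' (Equiv.swap j.castSucc j.succ * σ) :=
        (hg.diag_mul (isDiag_hh j (-1))).ww_mul j
      have e : y = tau k j * (tel k U₀ g' * a) := by
        rw [hy, tau_mul_tel ha hm' (asc_swap hj), hg', ww_ww_cancel]
      rw [e, tau_tau (p := p) (ha.tel g'), ← mul_assoc (tau k j), tau_mul_sumH, mul_assoc]
  by_cases hA : {j : Fin m | Asc j σ}.Nonempty
  · exact Or.inl ⟨_, y, hA, hy0, hfix, hprof, hey⟩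
  rw [Set.not_nonempty_iff_eq_empty] at hA
  rw [hA] at hprof
  by_cases hz : ∃ i : Fin m, sumH k i * y + y ≠ 0
  · obtain ⟨i, hi⟩ := hz
    refine Or.inl ⟨{i}, _, Set.singleton_nonempty i, hi,
      fun u hu => by rw [mul_add, isFix_sumH hfix i u hu, hfix u hu], fun l => ?_, fun e he hea => ?_⟩
    · rw [((hprof.sumH i).add hprof) l, if_neg (Set.notMem_empty l)]
      rcases eq_or_ne l i with rfl | hl
      · rw [if_pos (Set.mem_singleton l), mul_add, ← mul_assoc, sumH_mul_self (p := p), neg_mul,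
          neg_add_cancel]
      · rw [if_neg (by simpa using hl)]
    · rw [mul_add, ← mul_assoc, hey e he hea,
        show e * sumH k i = sumH k i * e by simp only [sumH, Finset.sum_mul, Finset.mul_sum, he],
        mul_assoc, hey e he hea]
  · push Not at hz
    have hS : ∀ i : Fin m, sumH k i * y = -y := fun i => eq_neg_of_add_eq_zero_left (hz i)
    refine Or.inr ⟨y, ⟨hy0, hfix, fun d hd => diag_fix_of_hh (fun j t => ?_) hd, fun l => ?_⟩, hey⟩
    · have := congrArg (fun w => dl k (hh j t : SLG m F) * w) (hS j)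
      simp only [← mul_assoc, dl_hh_mul_sumH, mul_neg] at this
      rw [hS j] at this
      exact (neg_inj.1 this).symm
    · rw [hprof l, if_neg (Set.notMem_empty l), hS]

end CfsgLib.SlBlocks
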