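import Cfsg.Agent.Unipotent.Irreducible
import Cfsg.Agent.S2424
import Cfsg.Agent.SlBlocks.Central
import Cfsg.Agent.S0914

/-!
The Steinberg character of `SL_{m+1}(q)`: irreducible of degree the order of the unitriangular
group and trivial on scalars.
-/

set_option autoImplicit false

open scoped Classical MatrixGroups ComplexConjugate

namespace CfsgLib.SlBlocks

open Cfsg CfsgLib.Unipotent Finset
open CfsgLib.Chars.Exceptional (inner_sum_left inner_sum_right inner_zsmul_left inner_zsmul_right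
  gen_sum gen_zsmul gen_of_char gen_norm_one irr_degree)

universe u

theorem sum_comp_fixedPointCharacter {S : Type*} {G : Type*} [Group S] [Fintype S] [Group G]
    [Fintype G] (φ : S →* G) (H K : Subgroup G)
    (hst : ∀ (x : (G ⧸ H) × (G ⧸ K)) (g : G), ∃ s : S, ∃ t : G, t • x = x ∧ g = φ s * t) :
    ∑ s : S, fixedPointCharacter H (φ s) * fixedPointCharacter K (φ s) =
      (Nat.card (Quotient (MulAction.orbitRel G ((G ⧸ H) × (G ⧸ K)))) : ℂ) * Nat.card S := by
  let Ω := (G ⧸ H) × (G ⧸ K)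
  letI : MulAction S Ω := MulAction.compHom Ω φ
  have hs : ∀ (s : S) (x : Ω), s • x = φ s • x := fun _ _ => rfl
  have h := MulAction.sum_card_fixedBy_eq_card_orbits_mul_card_group S Ω
  rw [← Nat.card_eq_fintype_card, ← Nat.card_eq_fintype_card] at h
  have horb : Nat.card (Quotient (MulAction.orbitRel S Ω)) =
      Nat.card (Quotient (MulAction.orbitRel G Ω)) := by
    refine Nat.card_congr (Quotient.congr (Equiv.refl _) fun x y => ?_)
    simp only [MulAction.orbitRel_apply, MulAction.mem_orbit_iff, Equiv.refl_apply]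
    constructor
    · rintro ⟨s, hsx⟩; exact ⟨φ s, hsx⟩
    · rintro ⟨g, hg⟩
      obtain ⟨s, t, ht, rfl⟩ := hst y g
      exact ⟨s, by rw [hs, ← hg, mul_smul, ht]⟩
  rw [← horb, ← Nat.cast_mul, ← h, Nat.cast_sum]
  refine sum_congr rfl fun g _ => ?_
  rw [fixedPointCharacter, fixedPointCharacter, ← Nat.cast_mul, ← Nat.card_prod,
    ← Nat.card_eq_fintype_card]
  congr 1
  exact Nat.card_congr
    { toFun := fun p => ⟨(p.1.1, p.2.1), Prod.ext p.1.2 p.2.2⟩
      invFun := fun p => (⟨p.1.1, congrArg Prod.fst p.2⟩, ⟨p.1.2, congrArg Prod.snd p.2⟩)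
      left_inv := fun _ => rfl
      right_inv := fun _ => rfl }

variable {F : Type u} [Field F] [Fintype F] {m : ℕ}

local notation "φ₀" => (Matrix.SpecialLinearGroup.toGL :
  SLG m F →* GL (Fin (m + 1)) F)

theorem exists_stab (μ μ' : Fin (m + 1) → ℕ)
    (x : (GL (Fin (m + 1)) F ⧸ parabolicGL (m + 1) F μ) ×
      (GL (Fin (m + 1)) F ⧸ parabolicGL (m + 1) F μ')) (g : GL (Fin (m + 1)) F) :
    ∃ s : SLG m F, ∃ t, t • x = x ∧ g = φ₀ s * t := by
  obtain ⟨⟨a⟩, ⟨b⟩⟩ := x
  obtain ⟨b₀, b₁, σ, hb₀, hb₁, e⟩ := exists_bruhat (a⁻¹ * b)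
  let dv : Fin (m + 1) → F := fun i => if i = 0 then (g : Matrix (Fin (m + 1)) (Fin (m + 1)) F).det else 1
  have hdv : ∀ i, dv i ≠ 0 := fun i => by
    by_cases h : i = 0
    · simp [dv, h, (Matrix.isUnits_det_units g).ne_zero]
    · simp [dv, h]
  have hprod : ∏ i, dv i = (g : Matrix (Fin (m + 1)) (Fin (m + 1)) F).det := by
    simp [dv, Finset.prod_ite_eq']
  obtain ⟨d, hd, hdu⟩ := exists_upper_of_blockTriangular (M := Matrix.diagonal dv)
    (Matrix.blockTriangular_diagonal dv) (fun i => by simpa using hdv i)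
  obtain ⟨d', hd', hdu'⟩ := exists_upper_of_blockTriangular (M := Matrix.diagonal (dv ∘ σ))
    (Matrix.blockTriangular_diagonal _) (fun i => by simpa using hdv (σ i))
  have hcomm : d * pm σ = pm σ * d' := by
    refine Units.ext (Matrix.ext fun i j => ?_)
    rw [Units.val_mul, Units.val_mul, hd, hd', coe_pm, Matrix.diagonal_mul, Matrix.mul_diagonal]
    simp only [pmMat, Matrix.of_apply, Function.comp_apply]
    split_ifs with h
    · subst h; ring
    · simp
  set t := a * b₀⁻¹ * d * b₀ * a⁻¹ with ht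
  have hdet : Matrix.GeneralLinearGroup.det t = Matrix.GeneralLinearGroup.det g := by
    rw [ht, map_mul, map_mul, map_mul, map_mul, map_inv, map_inv]
    rw [show Matrix.GeneralLinearGroup.det d = Matrix.GeneralLinearGroup.det g from Units.ext (by
      rw [Matrix.GeneralLinearGroup.val_det_apply, Matrix.GeneralLinearGroup.val_det_apply, hd,
        Matrix.det_diagonal, hprod])]
    rw [mul_right_comm (Matrix.GeneralLinearGroup.det a), inv_mul_cancel_right,
      mul_right_comm, mul_inv_cancel, one_mul]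
  have hmem : g * t⁻¹ ∈ (φ₀).range := CfsgLib.Classical.Linear.mem_range_toGL.2
    (by rw [map_mul, map_inv, hdet, mul_inv_cancel])
  obtain ⟨s, hs⟩ := hmem
  refine ⟨s, t, Prod.ext ?_ ?_, by rw [hs, inv_mul_cancel_right]⟩
  · show ((t * a : GL (Fin (m + 1)) F) : _ ⧸ parabolicGL (m + 1) F μ) = (a : GL (Fin (m + 1)) F)
    rw [ht, show a * b₀⁻¹ * d * b₀ * a⁻¹ * a = a * (b₀⁻¹ * d * b₀) by group]
    exact QuotientGroup.mk_mul_of_mem _ (mul_mem (mul_mem (inv_mem (isUpper_mem hb₀ μ))
      (isUpper_mem hdu μ)) (isUpper_mem hb₀ μ))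
  · show ((t * b : GL (Fin (m + 1)) F) : _ ⧸ parabolicGL (m + 1) F μ') = (b : GL (Fin (m + 1)) F)
    have hb : b = a * b₀⁻¹ * pm σ * b₁⁻¹ := by rw [← e]; group
    have e2 : t * b = b * (b₁ * d' * b₁⁻¹) := by
      rw [ht, hb, show a * b₀⁻¹ * d * b₀ * a⁻¹ * (a * b₀⁻¹ * pm σ * b₁⁻¹) =
        a * b₀⁻¹ * (d * pm σ) * b₁⁻¹ by group, hcomm]
      group
    rw [e2]
    exact QuotientGroup.mk_mul_of_mem _ (mul_mem (mul_mem (isUpper_mem hb₁ μ')
      (isUpper_mem hdu' μ')) (inv_mem (isUpper_mem hb₁ μ')))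

theorem classInner_flag_sl {μ μ' : Fin (m + 1) → ℕ} (hμ : ∑ i, μ i = m + 1)
    (hμ' : ∑ i, μ' i = m + 1) :
    classInner (fun s : SLG m F => fixedPointCharacter (parabolicGL (m + 1) F μ) (φ₀ s))
      (fun s => fixedPointCharacter (parabolicGL (m + 1) F μ') (φ₀ s)) =
      (Nat.card (Margins μ μ') : ℂ) := by
  rw [classInner]
  simp only [conj_fixedPointCharacter]
  rw [sum_comp_fixedPointCharacter φ₀ _ _ (exists_stab μ μ'), card_orbits_parabolic hμ hμ' F]
  have : (Nat.card (SLG m F) : ℂ) ≠ 0 := Nat.cast_ne_zero.2 Nat.card_pos.ne'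
  field_simp

/-- The Steinberg character. -/
noncomputable def stChar (m : ℕ) (F : Type u) [Field F] [Fintype F] : SLG m F → ℂ :=
  fun s => unipotentCharacterGL (m + 1) F (fun _ => 1) (Matrix.SpecialLinearGroup.toGL s)

theorem sum_ones : ∑ _i : Fin (m + 1), (1 : ℕ) = m + 1 := by simp

theorem stChar_one : stChar m F 1 = ((Nat.card (UU m F) : ℕ) : ℂ) := by
  set q := Fintype.card F with hq
  let Q : ℕ → ℂ := fun r => ((∑ l ∈ range r, q ^ l : ℕ) : ℂ)
  have hQne : ∀ r, Q (r + 1) ≠ 0 := fun r => Nat.cast_ne_zero.2 (by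
    rw [sum_range_succ']; simp)
  have h := Cfsg.Agent.S2424.result (F := F) (q := q) rfl (fun _ : Fin (m + 1) => 1)
    monotone_const sum_ones
  have hdiff : ∀ a b : ℕ, a ≤ b → Q b - Q a = (q : ℂ) ^ a * Q (b - a) := by
    intro a b hab
    rw [sub_eq_iff_eq_add', ← Nat.add_sub_cancel' hab]
    simp only [Q, Nat.add_sub_cancel_left, sum_range_add, pow_add, ← mul_sum, Nat.cast_add,
      Nat.cast_mul, Nat.cast_pow]
  have hfin : ∀ (b : Fin (m + 1)) (f : ℕ → ℂ), ∏ a ∈ univ.filter (fun a : Fin (m + 1) => a < b),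
      f a = ∏ t ∈ range (b : ℕ), f t := by
    intro b f
    refine prod_bij (fun a _ => (a : ℕ)) (fun a ha => by simpa using ha)
      (fun a _ a' _ h => Fin.ext h)
      (fun t ht => ⟨⟨t, by have := mem_range.1 ht; omega⟩, mem_filter.2 ⟨mem_univ _, Fin.lt_def.2 (mem_range.1 ht)⟩, rfl⟩)
      (fun _ _ => rfl)
  have hR : ∏ i : Fin (m + 1), ∏ j ∈ univ.filter (fun j : Fin (m + 1) => i < j),
      (Q (1 + j.val) - Q (1 + i.val)) =
      ∏ j : Fin (m + 1), ((q : ℂ) ^ (∑ t ∈ range (j : ℕ), (t + 1)) *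
        ∏ t ∈ range (j : ℕ), Q (t + 1)) := by
    rw [prod_comm' (t' := univ) (s' := fun j => univ.filter (fun i : Fin (m + 1) => i < j))
      (fun x y => ⟨fun h => ⟨mem_filter.2 ⟨mem_univ _, (mem_filter.1 h.2).2⟩, mem_univ _⟩,
        fun h => ⟨mem_univ _, mem_filter.2 ⟨mem_univ _, (mem_filter.1 h.1).2⟩⟩⟩)]
    refine prod_congr rfl fun j _ => ?_
    rw [hfin j (fun t => Q (1 + j.val) - Q (1 + t)), ← prod_range_reflect (fun t => Q (t + 1)),
      ← prod_pow_eq_pow_sum, ← prod_mul_distrib]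
    refine prod_congr rfl fun t ht => ?_
    have := mem_range.1 ht
    rw [hdiff _ _ (by omega), add_comm 1 t]
    congr 2
    omega
  have hL : ∏ i : Fin (m + 1), ∏ j ∈ range (1 + i.val), Q (j + 1) =
      (∏ j ∈ range (m + 1), Q (j + 1)) * ∏ i : Fin (m + 1), ∏ j ∈ range (i : ℕ), Q (j + 1) := by
    rw [← Fin.prod_univ_eq_prod_range (fun j => Q (j + 1)), ← prod_mul_distrib]
    refine prod_congr rfl fun i _ => ?_
    rw [add_comm 1, prod_range_succ, mul_comm]
  have hC : ∀ n : ℕ, n * (n - 1) * (n - 2) / 6 + ∑ j ∈ range n, j =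
      ∑ j ∈ range n, ∑ t ∈ range j, (t + 1) := by
    have hexp : ∀ n : ℕ, 6 * ∑ j ∈ range n, ∑ t ∈ range j, t = n * (n - 1) * (n - 2) := by
      intro n
      induction n with
      | zero => simp
      | succ n ih =>
        rw [sum_range_succ, mul_add, ih]
        have h2 := sum_range_id_mul_two n
        rcases n with _ | _ | n
        · simp
        · simp
        · simp only [show n + 1 + 1 - 1 = n + 1 by omega, show n + 1 + 1 - 2 = n by omega,
            show n + 1 + 1 + 1 - 1 = n + 2 by omega, show n + 1 + 1 + 1 - 2 = n + 1 by omega] at h2 ⊢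
          nlinarith
    intro n
    rw [← hexp n, Nat.mul_div_cancel_left _ (by norm_num), ← sum_add_distrib]
    simp [sum_add_distrib]
  change _ * _ * ∏ i : Fin (m + 1), ∏ j ∈ range (1 + i.val), Q (j + 1) =
    (∏ j ∈ range (m + 1), Q (j + 1)) *
      ∏ i : Fin (m + 1), ∏ j ∈ univ.filter (fun j : Fin (m + 1) => i < j),
        (Q (1 + j.val) - Q (1 + i.val)) at h
  rw [hR, hL, prod_mul_distrib, prod_pow_eq_pow_sum] at h
  have hne : (∏ j ∈ range (m + 1), Q (j + 1)) *
      ∏ i : Fin (m + 1), ∏ j ∈ range (i : ℕ), Q (j + 1) ≠ 0 :=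
    mul_ne_zero (prod_ne_zero_iff.2 fun j _ => hQne j)
      (prod_ne_zero_iff.2 fun i _ => prod_ne_zero_iff.2 fun j _ => hQne j)
  rw [CfsgLib.Classical.Linear.card_upperUnitriSL, stChar, map_one, Nat.cast_pow]
  rw [mul_left_comm, mul_comm ((q : ℂ) ^ _)] at h
  have h2 : unipotentCharacterGL (m + 1) F (fun _ => 1) 1 *
      (q : ℂ) ^ ((m + 1) * (m + 1 - 1) * (m + 1 - 2) / 6) =
      (q : ℂ) ^ (∑ i : Fin (m + 1), ∑ t ∈ range (i : ℕ), (t + 1)) :=
    mul_right_cancel₀ hne (by linear_combination h)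
  rw [Fin.sum_univ_eq_sum_range (fun j => ∑ t ∈ range j, (t + 1)), ← hC, pow_add, mul_comm] at h2
  rw [Fin.sum_univ_eq_sum_range (fun j => j)]
  exact mul_left_cancel₀ (pow_ne_zero _ (Nat.cast_ne_zero.2 Fintype.card_ne_zero)) h2

theorem isIrrCharacter_stChar : IsIrrCharacter (SLG m F) (stChar m F) := by
  have hexp : stChar m F = ∑ κ : Equiv.Perm (Fin (m + 1)),
      (if ∀ i : Fin (m + 1), (κ i).val ≤ 1 + i.val then (Equiv.Perm.sign κ : ℤ) else 0) •
        fun s : SLG m F =>
          fixedPointCharacter (parabolicGL (m + 1) F fun i => 1 + i.val - (κ i).val) (φ₀ s) := by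
    funext s
    have h := congrFun (unipotent_eq_sum (F := F) (fun _ : Fin (m + 1) => 1)) (φ₀ s)
    rw [Finset.sum_apply] at h ⊢
    simp only [Pi.smul_apply] at h ⊢
    exact h
  have hgen : IsGeneralizedCharacter (SLG m F) (stChar m F) := by
    rw [hexp]
    refine gen_sum _ _ fun κ _ => gen_zsmul _ (gen_of_char ?_)
    set P := parabolicGL (m + 1) F fun i => 1 + i.val - (κ i).val with hP
    letI : MulAction (SLG m F) (GL (Fin (m + 1)) F ⧸ P) :=
      MulAction.compHom _ φ₀
    haveI : Fintype (GL (Fin (m + 1)) F ⧸ P) := Fintype.ofFinite _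
    exact CfsgLib.Chars.PermChar.isCharacter_fixChar
  have hnorm : classInner (stChar m F) (stChar m F) = 1 := by
    have hsm : StrictMono fun i : Fin (m + 1) => 1 + i.val :=
      strictMono_shift (ν := fun _ => 1) monotone_const
    have hid := sum_sum_margins _ _ hsm hsm
    have hcast := congrArg (fun z : ℤ => (z : ℂ)) hid
    simp only [if_true, Int.cast_one] at hcast
    rw [hexp, inner_sum_left]
    simp only [inner_sum_right, inner_zsmul_left, inner_zsmul_right]
    rw [← hcast]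
    push_cast
    refine sum_congr rfl fun κ _ => sum_congr rfl fun τ _ => ?_
    by_cases h1 : ∀ i : Fin (m + 1), (κ i).val ≤ 1 + i.val
    · by_cases h2 : ∀ i : Fin (m + 1), (τ i).val ≤ 1 + i.val
      · simp only [if_pos h1, if_pos h2, if_pos (And.intro h1 h2)]
        rw [classInner_flag_sl (sum_shift (ν := fun _ => 1) sum_ones h1)
          (sum_shift (ν := fun _ => 1) sum_ones h2)]
        ring
      · simp [h1, h2]
    · simp [h1]
  obtain ⟨ε, hε, hirr⟩ := gen_norm_one hgen hnorm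
  rcases hε with rfl | rfl
  · simpa using hirr
  · obtain ⟨d, hd, e⟩ := irr_degree hirr
    rw [Pi.smul_apply, stChar_one, smul_eq_mul] at e
    have h3 : ((Nat.card (UU m F) + d : ℕ) : ℂ) = 0 := by
      push_cast at e ⊢
      linear_combination -e
    have := Nat.cast_eq_zero.1 h3
    omega

/-- The Steinberg character does not see scalars. -/
theorem stChar_scalar_mul {z : SLG m F} (hz : IsScalar z) (g : SLG m F) :
    stChar m F (z * g) = stChar m F g := by
  simp only [stChar, unipotentCharacterGL]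
  refine sum_congr rfl fun κ _ => ?_
  split_ifs
  · congr 1
    set P := parabolicGL (m + 1) F fun i => 1 + i.val - (κ i).val
    have hP : φ₀ z ∈ P := fun i j hij => hz.1 i j (fun e => hij.ne (by rw [e]))
    have hfix : ∀ c : GL (Fin (m + 1)) F ⧸ P, φ₀ z • c = c := by
      intro c
      induction c using QuotientGroup.induction_on with
      | H a =>
        show ((φ₀ z * a : GL (Fin (m + 1)) F) : _ ⧸ P) = a
        have hc : φ₀ z * a = a * φ₀ z := Units.ext (Matrix.ext fun i j => by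
          have hd : ∀ x y, x ≠ y → (z : Matrix (Fin (m + 1)) (Fin (m + 1)) F) x y = 0 := hz.1
          simp only [Units.val_mul, Matrix.mul_apply]
          show ∑ x, ent z i x * (a : Matrix (Fin (m + 1)) (Fin (m + 1)) F) x j =
            ∑ x, (a : Matrix (Fin (m + 1)) (Fin (m + 1)) F) i x * ent z x j
          rw [sum_eq_single i (fun x _ hx => by rw [hz.1 i x hx.symm, zero_mul]) (by simp),
            sum_eq_single j (fun x _ hx => by rw [hz.1 x j hx, mul_zero]) (by simp), hz.2 i j,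
            mul_comm])
        rw [hc, QuotientGroup.mk_mul_of_mem _ hP]
    simp only [fixedPointCharacter, map_mul]
    congr 2
    refine congrArg Set.Elem (Set.ext fun c => ?_)
    rw [MulAction.mem_fixedBy, MulAction.mem_fixedBy, mul_smul, hfix]
  · rfl

/-- The Steinberg character, as an irreducible character. -/
noncomputable def stIrr (m : ℕ) (F : Type u) [Field F] [Fintype F] : IrrCharacter (SLG m F) :=
  ⟨stChar m F, isIrrCharacter_stChar⟩

variable {p : ℕ} [Fact p.Prime] [CharP F p]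

theorem card_UU_eq : Nat.card (UU m F) = p ^ (Nat.card (SLG m F)).factorization p := by
  rw [← Sylow.card_eq_multiplicity (CfsgLib.Classical.Linear.upperSylowSL (m + 1) F p)]
  rfl

theorem charDegree_stIrr : charDegree ((stIrr m F : IrrCharacter (SLG m F)) : SLG m F → ℂ) =
    p ^ (Nat.card (SLG m F)).factorization p := by
  rw [← card_UU_eq (m := m) (F := F)]
  exact CfsgLib.Chars.charDegree_eq_of_map_one stChar_one

theorem blockOf_stIrr {M : Ideal AlgInt} (hM : IsPModular p M) :
    blockOf M ((stIrr m F : IrrCharacter (SLG m F)) : SLG m F → ℂ) = {stIrr m F} := by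
  refine (Cfsg.Agent.S0914.result p M hM (stIrr m F)).1 ?_
  rw [charDegree_stIrr]
  exact Nat.not_dvd_ordCompl (Fact.out : p.Prime) Nat.card_pos.ne'

end CfsgLib.SlBlocks
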